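import Mathlib
import Cfsg.Agent.Chars.Construct
import Cfsg.Agent.Chars.Count
import Cfsg.Agent.Chars.Values
import Cfsg.Agent.Blocks.PiSection

/-!
# Class functions with algebraic integral coefficients

The trace of an integral operator commuting with a representation is such a function, and so is
the inverse, up to a power of a prime not dividing the group order, of such a function.
-/

set_option autoImplicit false
set_option linter.unusedSectionVars false

namespace Cfsg.Lib.RealVector

open Cfsg Cfsg.Lib.Chars Cfsg.Lib.Blocks Polynomial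
open scoped ComplexConjugate

universe u v

variable {H : Type u} [Group H] [Fintype H]

/-- A class function whose coefficients are algebraic integers. -/
def IntVirt (f : H → ℂ) : Prop :=
  IsClassFunction H f ∧ ∀ ψ : IrrCharacter H, IsIntegral ℤ (classInner f (ψ : H → ℂ))

lemma IntVirt.isIntegral_apply {f : H → ℂ} (hf : IntVirt f) (h : H) : IsIntegral ℤ (f h) := by
  rw [classFunction_expand_apply hf.1 h]
  exact IsIntegral.sum _ fun ψ _ =>
    (hf.2 ψ).mul (IsCharacter.isIntegral (isCharacter_of_irr ψ.2) h)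

lemma IntVirt.of_isCharacter {f : H → ℂ} (hf : IsCharacter H f) : IntVirt f := by
  refine ⟨isClassFunction_isChar hf, fun ψ => ?_⟩
  obtain ⟨n, hn⟩ := classInner_generalized_int (IsCharacter.isGeneralized hf)
    (isCharacter_of_irr ψ.2)
  rw [hn]
  exact isIntegral_algebraMap (R := ℤ) (x := n)

lemma IntVirt.one : IntVirt (fun _ : H => (1 : ℂ)) :=
  IntVirt.of_isCharacter isCharacter_one

lemma IntVirt.zero : IntVirt (fun _ : H => (0 : ℂ)) :=
  ⟨fun _ _ => rfl, fun ψ => by
    rw [classInner_def]
    simp [isIntegral_zero]⟩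

lemma IntVirt.add {f g : H → ℂ} (hf : IntVirt f) (hg : IntVirt g) :
    IntVirt (fun h => f h + g h) := by
  refine ⟨fun a b => by simp only [hf.1 a b, hg.1 a b], fun ψ => ?_⟩
  rw [show (fun h => f h + g h) = f + g from rfl, classInner_add_left]
  exact (hf.2 ψ).add (hg.2 ψ)

lemma IntVirt.smul {f : H → ℂ} (hf : IntVirt f) {c : ℂ} (hc : IsIntegral ℤ c) :
    IntVirt (fun h => c * f h) := by
  refine ⟨fun a b => by simp only [hf.1 a b], fun ψ => ?_⟩
  have h := hc.mul (hf.2 ψ)
  simp only [classInner_def, Finset.mul_sum] at h ⊢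
  refine (Eq.subst (motive := fun z : ℂ => IsIntegral ℤ z) ?_ h)
  exact Finset.sum_congr rfl fun x _ => by ring

lemma IntVirt.sum {ι : Type*} (s : Finset ι) (F : ι → H → ℂ) (hF : ∀ i ∈ s, IntVirt (F i)) :
    IntVirt (fun h => ∑ i ∈ s, F i h) := by
  classical
  induction s using Finset.induction_on with
  | empty => simpa using (IntVirt.zero (H := H))
  | insert a t hat ih =>
    simp only [Finset.sum_insert hat]
    exact (hF a (Finset.mem_insert_self a t)).add (ih fun i hi => hF i (Finset.mem_insert_of_mem hi))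

lemma IntVirt.mul {f g : H → ℂ} (hf : IntVirt f) (hg : IntVirt g) :
    IntVirt (fun h => f h * g h) := by
  have h1 : ∀ a b : IrrCharacter H, IntVirt (fun h => (a : H → ℂ) h * (b : H → ℂ) h) := fun a b =>
    IntVirt.of_isCharacter (IsCharacter.mul (isCharacter_of_irr a.2) (isCharacter_of_irr b.2))
  have h2 : IntVirt (fun h => ∑ a : IrrCharacter H, ∑ b : IrrCharacter H,
      (classInner f (a : H → ℂ) * classInner g (b : H → ℂ)) * ((a : H → ℂ) h * (b : H → ℂ) h)) :=
    IntVirt.sum _ _ fun a _ => IntVirt.sum _ _ fun b _ =>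
      (h1 a b).smul ((hf.2 a).mul (hg.2 b))
  convert h2 using 1
  funext h
  rw [classFunction_expand_apply hf.1 h, classFunction_expand_apply hg.1 h, Finset.sum_mul_sum]
  exact Finset.sum_congr rfl fun a _ => Finset.sum_congr rfl fun b _ => by ring

lemma IntVirt.pow {f : H → ℂ} (hf : IntVirt f) (n : ℕ) : IntVirt (fun h => f h ^ n) := by
  induction n with
  | zero => simpa using (IntVirt.one (H := H))
  | succ n ih => simpa only [pow_succ] using ih.mul hf

/-- **Division**: if `f * g` is a constant prime to the group order and `f` has integral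
coefficients and `g` integral values then `g` has integral coefficients. -/
theorem IntVirt.of_mul_eq {f g : H → ℂ} (hf : IntVirt f) (hg : ∀ h, IsIntegral ℤ (g h)) {q : ℕ}
    (hq : Nat.Coprime q (Nat.card H)) (hq0 : q ≠ 0) (hfg : ∀ h, f h * g h = (q : ℂ)) :
    IntVirt g := by
  classical
  have hf0 : ∀ h, f h ≠ 0 := fun h h0 => by
    have := hfg h
    rw [h0, zero_mul] at this
    exact hq0 (Nat.cast_eq_zero.1 this.symm)
  have hcl : IsClassFunction H g := fun a b => by
    have h1 := hfg (b * a * b⁻¹)
    rw [hf.1 a b, ← hfg a] at h1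
    exact mul_left_cancel₀ (hf0 a) h1
  let P0 : (integralClosure ℤ ℂ)[X] :=
    ∏ k : H, (X - C (⟨f k, hf.isIntegral_apply k⟩ : integralClosure ℤ ℂ))
  let P : ℂ[X] := P0.map (algebraMap (integralClosure ℤ ℂ) ℂ)
  have hP : P = ∏ k : H, (X - C (f k)) := by
    simp only [P, P0, Polynomial.map_prod, Polynomial.map_sub, map_X, map_C]
    rfl
  have hroot : ∀ h, P.eval (f h) = 0 := fun h => by
    rw [hP, eval_prod]
    exact Finset.prod_eq_zero (Finset.mem_univ h) (by simp)
  have hcoef : ∀ i, IsIntegral ℤ (P.coeff i) := fun i => by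
    simp only [P, coeff_map]
    exact (P0.coeff i).2
  -- the constant term times `g` has integral coefficients
  have hR : IntVirt (fun h => -(q : ℂ) * ∑ i ∈ Finset.range (P.natDegree + 1),
      P.divX.coeff i * f h ^ i) :=
    (IntVirt.sum _ _ fun i _ => (hf.pow i).smul (by rw [coeff_divX]; exact hcoef _)).smul
      (IsIntegral.neg (isIntegral_algebraMap (R := ℤ) (x := (q : ℤ))))
  have hkey : (fun h => -(q : ℂ) * ∑ i ∈ Finset.range (P.natDegree + 1),
      P.divX.coeff i * f h ^ i) = fun h => P.coeff 0 * g h := by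
    funext h
    rw [← eval_eq_sum_range' (Nat.lt_succ_of_le natDegree_divX_le)]
    have h1 := congrArg (fun Q : ℂ[X] => Q.eval (f h)) (X_mul_divX_add P)
    simp only [eval_add, eval_mul, eval_X, eval_C, hroot h] at h1
    rw [← hfg h, eq_neg_of_add_eq_zero_right h1]
    ring
  rw [hkey] at hR
  refine ⟨hcl, fun ψ => ?_⟩
  set x := classInner g (ψ : H → ℂ) with hx
  have hD : IsIntegral ℤ (P.coeff 0 * x) := by
    have h := hR.2 ψ
    rw [classInner_def] at h
    rw [hx, classInner_def]
    convert h using 1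
    simp only [Finset.mul_sum]
    exact Finset.sum_congr rfl fun k _ => by ring
  have hP0 : P.coeff 0 * ∏ k : H, g k = (-1) ^ Fintype.card H * (q : ℂ) ^ Fintype.card H := by
    rw [hP, coeff_zero_eq_eval_zero, eval_prod]
    simp only [eval_sub, eval_X, eval_C, zero_sub]
    rw [← Finset.prod_mul_distrib]
    simp only [neg_mul, hfg, Finset.prod_const, Finset.card_univ]
    rw [neg_pow]
  have hq' : IsIntegral ℤ ((q : ℂ) ^ Fintype.card H * x) := by
    have h1 : IsIntegral ℤ ((-1) ^ Fintype.card H * ((∏ k : H, g k) * (P.coeff 0 * x))) :=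
      ((IsIntegral.neg isIntegral_one).pow _).mul ((IsIntegral.prod _ fun k _ => hg k).mul hD)
    rw [← mul_assoc (∏ k : H, g k), mul_comm (∏ k : H, g k), hP0, ← mul_assoc, ← mul_assoc,
      ← mul_pow, neg_one_mul, neg_neg, one_pow, one_mul] at h1
    exact h1
  have hn : IsIntegral ℤ ((Nat.card H : ℂ) * x) := by
    rw [hx, classInner_def, mul_inv_cancel_left₀ (Nat.cast_ne_zero.2 Nat.card_pos.ne')]
    exact IsIntegral.sum _ fun k _ => (hg k).mul (by
      rw [← IsCharacter.conj_inv (isCharacter_of_irr ψ.2)]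
      exact IsCharacter.isIntegral (isCharacter_of_irr ψ.2) _)
  obtain ⟨a, b, hab⟩ := Nat.isCoprime_iff_coprime.2 (Nat.Coprime.pow_left (Fintype.card H) hq)
  have : x = (a : ℂ) * ((q : ℂ) ^ Fintype.card H * x) + (b : ℂ) * ((Nat.card H : ℂ) * x) := by
    have h1 : (a : ℂ) * (q : ℂ) ^ Fintype.card H + (b : ℂ) * (Nat.card H : ℂ) = 1 := by
      exact_mod_cast hab
    calc x = ((a : ℂ) * (q : ℂ) ^ Fintype.card H + (b : ℂ) * (Nat.card H : ℂ)) * x := by
          rw [h1, one_mul]
      _ = _ := by ring
  rw [this]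
  exact ((isIntegral_algebraMap (R := ℤ) (x := a)).mul hq').add
    ((isIntegral_algebraMap (R := ℤ) (x := b)).mul hn)

/-- An integral endomorphism has integral trace, also after composing with a commuting
idempotent. -/
lemma isIntegral_trace_mul_idem {V : Type v} [AddCommGroup V] [Module ℂ V] [FiniteDimensional ℂ V]
    {K E : Module.End ℂ V} (hK : IsIntegral ℤ K) (hc : Commute K E) (hE : E * E = E) :
    IsIntegral ℤ (LinearMap.trace ℂ V (K * E)) := by
  obtain ⟨Q, hQm, hQ⟩ := hK
  rw [Module.End.trace_eq_sum_roots_charpoly_of_splits (IsAlgClosed.splits _)]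
  refine multiset_sum_mem (S := integralClosure ℤ ℂ) _ fun z hz => ?_
  have hr : (LinearMap.charpoly (K * E)).IsRoot z := (Polynomial.mem_roots'.mp hz).2
  rw [← Module.End.hasEigenvalue_iff_isRoot_charpoly] at hr
  obtain ⟨w, hw⟩ := hr.exists_hasEigenvector
  have hpow : ∀ i : ℕ, (K * E) ^ (i + 1) = K ^ (i + 1) * E := fun i => by
    induction i with
    | zero => simp
    | succ i ih =>
      rw [pow_succ, ih, pow_succ K (i + 1), mul_assoc, ← mul_assoc E, ← hc.eq, mul_assoc K E E, hE,
        ← mul_assoc]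
  refine ⟨X * Q, monic_X.mul hQm, ?_⟩
  have h1 : aeval (K * E) (X * Q) = aeval K (X * Q) * E := by
    rw [aeval_eq_sum_range, aeval_eq_sum_range, Finset.sum_mul]
    refine Finset.sum_congr rfl fun i _ => ?_
    rcases Nat.eq_zero_or_pos i with rfl | hi
    · simp
    · obtain ⟨j, rfl⟩ := Nat.exists_eq_add_of_le hi
      rw [add_comm, hpow j, smul_mul_assoc]
  have h2 : aeval (K * E) (X * Q) = 0 := by
    rw [h1, map_mul, show aeval K Q = 0 from hQ, mul_zero, zero_mul]
  have h3 := hw.pow_apply (R := ℂ)
  have h4 : aeval (K * E) (X * Q) w = aeval z (X * Q) • w := by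
    rw [aeval_eq_sum_range, aeval_eq_sum_range, LinearMap.sum_apply, Finset.sum_smul]
    refine Finset.sum_congr rfl fun i _ => ?_
    rw [LinearMap.smul_apply, h3 i, ← smul_assoc]
  rw [h2, LinearMap.zero_apply] at h4
  exact (smul_eq_zero.1 h4.symm).resolve_right hw.2

/-- **Traces of commuting integral operators have integral coefficients.** -/
theorem IntVirt.trace_mul {V : Type v} [AddCommGroup V] [Module ℂ V] [FiniteDimensional ℂ V]
    (ρ : Representation ℂ H V) {K : Module.End ℂ V} (hK : IsIntegral ℤ K)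
    (hc : ∀ h, Commute K (ρ h)) : IntVirt (fun h => LinearMap.trace ℂ V (K * ρ h)) := by
  classical
  refine ⟨fun a b => ?_, fun ψ => ?_⟩
  · show LinearMap.trace ℂ V (K * ρ (b * a * b⁻¹)) = LinearMap.trace ℂ V (K * ρ a)
    rw [ρ.map_mul, ← mul_assoc, LinearMap.trace_mul_comm, ← mul_assoc, ← (hc b⁻¹).eq, mul_assoc,
      ← ρ.map_mul, ← mul_assoc b⁻¹, inv_mul_cancel, one_mul]
  · obtain ⟨n, σ, -, hσ⟩ := ψ.2
    let R := Representation.tprod ρ σ.dual
    let E : Module.End ℂ (TensorProduct ℂ V (Module.Dual ℂ (Fin n → ℂ))) :=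
      (Nat.card H : ℂ)⁻¹ • ∑ h : H, R h
    let ι : Module.End ℂ V →ₐ[ℂ] Module.End ℂ (TensorProduct ℂ V (Module.Dual ℂ (Fin n → ℂ))) :=
      AlgHom.ofLinearMap
        { toFun := fun f => TensorProduct.map f LinearMap.id
          map_add' := fun f g => TensorProduct.map_add_left f g _
          map_smul' := fun c f => TensorProduct.map_smul_left c f _ }
        TensorProduct.map_id
        (fun f g => by
          show TensorProduct.map (f * g) LinearMap.id =
            (TensorProduct.map f LinearMap.id).comp (TensorProduct.map g LinearMap.id)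
          rw [← TensorProduct.map_comp]; rfl)
    have hne : (Nat.card H : ℂ) ≠ 0 := Nat.cast_ne_zero.2 Nat.card_pos.ne'
    have hEE : E * E = E := by
      have hk : ∀ k, R k * ∑ h : H, R h = ∑ h : H, R h := fun k => by
        rw [Finset.mul_sum]
        exact Fintype.sum_equiv (Equiv.mulLeft k) _ _ fun h => by simp [← map_mul]
      simp only [E]
      rw [smul_mul_smul_comm, Finset.sum_mul, Finset.sum_congr rfl fun k _ => hk k,
        Finset.sum_const, Finset.card_univ, ← Nat.card_eq_fintype_card, ← Nat.cast_smul_eq_nsmul ℂ,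
        smul_smul]
      congr 1
      field_simp
    have hcE : Commute (ι K) E := by
      refine Commute.smul_right (Commute.sum_right _ _ _ fun h _ => ?_) _
      show (TensorProduct.map K LinearMap.id).comp (TensorProduct.map (ρ h) (σ.dual h)) =
        (TensorProduct.map (ρ h) (σ.dual h)).comp (TensorProduct.map K LinearMap.id)
      rw [← TensorProduct.map_comp, ← TensorProduct.map_comp, LinearMap.id_comp, LinearMap.comp_id]
      congr 1
      exact (hc h).eq
    have hint := isIntegral_trace_mul_idem (hK.map (ι.restrictScalars ℤ)) hcE hEE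
    convert hint using 1
    rw [classInner_def]
    simp only [E, AlgHom.coe_restrictScalars', mul_smul_comm, map_smul, smul_eq_mul, Finset.mul_sum,
      map_sum]
    refine Finset.sum_congr rfl fun h _ => ?_
    congr 1
    show _ = LinearMap.trace ℂ _ ((TensorProduct.map K LinearMap.id).comp
      (TensorProduct.map (ρ h) (σ.dual h)))
    rw [← TensorProduct.map_comp, LinearMap.id_comp, LinearMap.trace_tensorProduct',
      ← IsCharacter.conj_inv (isCharacter_of_irr ψ.2), ← hσ, ← Representation.char_dual]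
    rfl

/-- A matrix with integral entries is integral. -/
lemma isIntegral_matrix {m : Type v} [Fintype m] [DecidableEq m] (A : Matrix m m ℂ)
    (hA : ∀ i j, IsIntegral ℤ (A i j)) : IsIntegral ℤ A := by
  let A₀ : Matrix m m (integralClosure ℤ ℂ) := Matrix.of fun i j => ⟨A i j, hA i j⟩
  have h1 : IsIntegral ℤ A₀ := isIntegral_trans A₀ (Matrix.isIntegral A₀)
  have h2 := h1.map (((integralClosure ℤ ℂ).val : (integralClosure ℤ ℂ) →ₐ[ℤ] ℂ).mapMatrix (m := m))
  convert h2 using 1
  ext i j
  simp [A₀]

end Cfsg.Lib.RealVector
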