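import Mathlib
import Cfsg.Agent.Blocks.RealVector.IntVirt
import Cfsg.Agent.Blocks.LocalRing
import Cfsg.Agent.Chars.Galois

/-!
# Gauss sums attached to an invariant quadratic form
-/

set_option autoImplicit false
set_option linter.unusedSectionVars false
set_option linter.unusedSimpArgs false

namespace Cfsg.Lib.RealVector

open Cfsg Cfsg.Lib.Chars Cfsg.Lib.Blocks
open scoped ComplexConjugate Classical

universe u v

variable {H : Type u} [Group H] [Fintype H] {W : Type v} [AddCommGroup W] [Fintype W]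
  [DistribMulAction H W] {p : ℕ} [Fact p.Prime] {M : Ideal AlgInt}

/-- The map `w ↦ h • w - w`. -/
noncomputable def dMap (h : H) : W →+ W := DistribSMul.toAddMonoidHom W h - AddMonoidHom.id W

@[simp] lemma dMap_apply (h : H) (w : W) : dMap h w = h • w - w := rfl

/-- The commutator space `[W, h]`. -/
noncomputable def rng (W : Type v) [AddCommGroup W] [DistribMulAction H W] (h : H) : AddSubgroup W :=
  (dMap (W := W) h).range

lemma mem_rng (h : H) (u : W) : h • u - u ∈ rng W h := ⟨u, rfl⟩

lemma card_rng_mul (h : H) : Nat.card (rng W h) * Nat.card (dMap (W := W) h).ker = Nat.card W := by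
  rw [AddSubgroup.card_eq_card_quotient_mul_card_addSubgroup (dMap (W := W) h).ker,
    Nat.card_congr (QuotientAddGroup.quotientKerEquivRange (dMap (W := W) h)).toEquiv]
  rfl

/-- An element of `[W, h]` fixed by `h` is zero. -/
lemma eq_zero_of_fixed (hW : ∀ w : W, p • w = 0) (hpH : ¬ p ∣ Nat.card H) {h : H} {z : W}
    (hz : z ∈ rng W h) (hf : h • z = z) : z = 0 := by
  obtain ⟨u, rfl⟩ := hz
  simp only [dMap_apply] at hf ⊢
  have hi : ∀ i : ℕ, h ^ i • u = u + i • (h • u - u) := fun i => by
    induction i with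
    | zero => simp
    | succ i ih =>
      rw [pow_succ', mul_smul, ih, smul_add, smul_comm h i, hf, succ_nsmul]
      abel
  have h1 := hi (Nat.card H)
  rw [pow_card_eq_one', one_smul, left_eq_add] at h1
  obtain ⟨a, b, hab⟩ := Nat.isCoprime_iff_coprime.2
    ((Nat.Prime.coprime_iff_not_dvd (Fact.out : p.Prime)).2 hpH)
  calc h • u - u = ((a * p + b * Nat.card H : ℤ)) • (h • u - u) := by rw [hab, one_smul]
    _ = 0 := by rw [add_smul, mul_smul, mul_smul, natCast_zsmul, natCast_zsmul, hW, h1, smul_zero,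
        smul_zero, add_zero]

/-- `h • · - ·` permutes `[W, h]`. -/
lemma dMap_bijective (hW : ∀ w : W, p • w = 0) (hpH : ¬ p ∣ Nat.card H) (h : H) :
    Function.Bijective (fun z : rng W h => (⟨dMap h (z : W), ⟨z, rfl⟩⟩ : rng W h)) := by
  refine (Finite.injective_iff_bijective).1 fun a b hab => ?_
  have h1 : dMap h ((a : W) - b) = 0 := by
    rw [map_sub, sub_eq_zero]; exact congrArg Subtype.val hab
  exact Subtype.ext (sub_eq_zero.1 (eq_zero_of_fixed hW hpH (sub_mem a.2 b.2)
    (sub_eq_zero.1 h1)))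

/-- Every element is the sum of an element of `[W, h]` and a fixed one. -/
lemma exists_rng_add_fixed (hW : ∀ w : W, p • w = 0) (hpH : ¬ p ∣ Nat.card H) (h : H) (u : W) :
    ∃ z ∈ rng W h, ∃ c : W, h • c = c ∧ u = z + c := by
  obtain ⟨z, hz⟩ := (dMap_bijective hW hpH h).2 ⟨dMap h u, ⟨u, rfl⟩⟩
  refine ⟨z, z.2, u - z, sub_eq_zero.1 ?_, by abel⟩
  rw [← dMap_apply, map_sub, sub_eq_zero]
  exact (congrArg Subtype.val hz).symm

lemma sum_dMap {β : Type*} [AddCommMonoid β] (h : H) (F : W → β) :
    ∑ u : W, F (dMap h u) = Nat.card (dMap (W := W) h).ker • ∑ z : rng W h, F z := by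
  have key : ∑ u : W, F (dMap h u) = ∑ z : rng W h, ∑ u ∈ Finset.univ.filter
      (fun u : W => (⟨dMap h u, ⟨u, rfl⟩⟩ : rng W h) = z), F (dMap h u) :=
    (Finset.sum_fiberwise _ _ _).symm
  rw [key, Finset.smul_sum]
  refine Finset.sum_congr rfl fun z _ => ?_
  obtain ⟨u₀, hu₀⟩ := z.2
  rw [Finset.sum_congr rfl fun u hu => show F (dMap h u) = F z from
    congrArg F (congrArg Subtype.val (Finset.mem_filter.1 hu).2), Finset.sum_const]
  congr 1
  rw [Nat.card_eq_fintype_card, Fintype.card_subtype]
  refine Finset.card_bij' (fun u _ => u - u₀) (fun k _ => k + u₀) ?_ ?_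
    (fun _ _ => sub_add_cancel _ _) (fun _ _ => add_sub_cancel_right _ _)
  · intro u hu
    refine Finset.mem_filter.2 ⟨Finset.mem_univ _, ?_⟩
    rw [AddMonoidHom.mem_ker, map_sub, hu₀, sub_eq_zero]
    exact congrArg Subtype.val (Finset.mem_filter.1 hu).2
  · intro k hk
    refine Finset.mem_filter.2 ⟨Finset.mem_univ _, Subtype.ext ?_⟩
    show dMap h (k + u₀) = (z : W)
    rw [map_add, hu₀, AddMonoidHom.mem_ker.1 (Finset.mem_filter.1 hk).2, zero_add]

/-- The character of `ZMod p` into the complex numbers. -/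
noncomputable abbrev e (p : ℕ) [Fact p.Prime] : AddChar (ZMod p) ℂ := ZMod.stdAddChar

lemma e_pow (t : ZMod p) : e p t ^ p = 1 := by
  rw [← AddChar.map_nsmul_eq_pow, nsmul_eq_mul, ZMod.natCast_self, zero_mul, AddChar.map_zero_eq_one]

lemma isIntegral_e (t : ZMod p) : IsIntegral ℤ (e p t) :=
  isIntegral_of_pow_eq_one (Fact.out : p.Prime).pos (e_pow t)

lemma res_eq_one_of_pow (hM : IsPModular p M) {z : ℂ} (hz : z ^ p = 1) : res M z = 1 := by
  haveI := charP_res hM
  have hzi : z ∈ place M := isIntegral_mem_place hM (isIntegral_of_pow_eq_one hM.1.pos hz)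
  have hp : ∀ n : ℕ, res M (z ^ n) = res M z ^ n := fun n => by
    induction n with
    | zero => rw [pow_zero, pow_zero, res_one]
    | succ n ih => rw [pow_succ, res_mul (pow_mem hzi n) hzi, ih, pow_succ]
  have h1 := hp p
  rw [hz, res_one] at h1
  refine sub_eq_zero.1 (pow_eq_zero_iff hM.1.ne_zero |>.1 ?_)
  rw [sub_pow_char, one_pow, ← h1, sub_self]

lemma small_sum_e (hM : IsPModular p M) {Z : Type*} [Fintype Z] (hZ : p ∣ Fintype.card Z)
    (g : Z → ZMod p) : Small M (∑ z, e p (g z)) := by
  have hi : ∀ z : Z, e p (g z) ∈ place M := fun z => isIntegral_mem_place hM (isIntegral_e _)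
  rw [← res_eq_zero_iff (sum_mem fun z _ => hi z), res_sum _ _ fun z _ => hi z,
    Finset.sum_congr rfl fun z _ => res_eq_one_of_pow hM (e_pow (g z)), Finset.sum_const,
    Finset.card_univ, nsmul_one, res_natCast_eq_zero_iff hM]
  exact hZ

lemma dvd_card_rng (hW : ∀ w : W, p • w = 0) {h : H} (hne : ∃ w : W, h • w ≠ w) :
    p ∣ Fintype.card (rng W h) := by
  obtain ⟨w, hw⟩ := hne
  have h0 : (⟨_, mem_rng h w⟩ : rng W h) ≠ 0 := fun h' =>
    hw (sub_eq_zero.1 (congrArg Subtype.val h'))
  have h1 : addOrderOf (⟨_, mem_rng h w⟩ : rng W h) = p :=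
    addOrderOf_eq_prime (Subtype.ext (hW _)) h0
  exact h1 ▸ addOrderOf_dvd_card

/-- The functions attached to a module with a form: integral coefficients, norms the orders of the
commutator spaces, vanishing at the maximal ideal off the kernel. -/
structure IsOmega (M : Ideal AlgInt) (p : ℕ) (H : Type u) [Group H] [Fintype H] (W : Type v)
    [AddCommGroup W] [DistribMulAction H W] (f : H → ℂ) : Prop where
  virt : IntVirt f
  one : f 1 = 1
  normSq : ∀ h, f h * conj (f h) = (Nat.card (rng W h) : ℂ)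
  small : ∀ h, (∃ w : W, h • w ≠ w) → Small M (f h)
  cyc : ∀ h, f h ∈ cycField (p * Nat.card H)

lemma card_rng_one : Nat.card (rng W (1 : H)) = 1 := by
  rw [AddSubgroup.card_eq_one]
  refine (AddSubgroup.eq_bot_iff_forall _).2 ?_
  rintro _ ⟨u, rfl⟩
  simp

lemma coprime_card_of_exponent (hW : ∀ w : W, p • w = 0) (hpH : ¬ p ∣ Nat.card H) :
    Nat.Coprime (Nat.card W) (Nat.card H) := by
  refine Nat.coprime_of_dvd fun r hr h1 h2 => hpH ?_
  rw [Nat.card_eq_fintype_card] at h1
  haveI := Fact.mk hr
  obtain ⟨w, hw⟩ := exists_prime_addOrderOf_dvd_card r h1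
  have h3 : r ∣ p := hw ▸ addOrderOf_dvd_of_nsmul_eq_zero (hW w)
  rw [((Nat.prime_dvd_prime_iff_eq hr Fact.out).1 h3)] at h2
  exact h2

/-- **The Gauss sums of an invariant quadratic form with nondegenerate polar.** -/
theorem exists_omega_gauss (hM : IsPModular p M) (hW : ∀ w : W, p • w = 0)
    (hpH : ¬ p ∣ Nat.card H) (q : W → ZMod p) (s : W → W → ZMod p)
    (hpol : ∀ a b, q (a + b) = q a + q b + s a b) (hadd : ∀ a a' b, s (a + a') b = s a b + s a' b)
    (hinv : ∀ (h : H) (w : W), q (h • w) = q w) (hnd : ∀ a, (∀ b, s b a = 0) → a = 0) :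
    ∃ f : H → ℂ, IsOmega M p H W f := by
  have hs0 : ∀ b, s 0 b = 0 := fun b => by simpa using hadd 0 0 b
  have hq0 : q 0 = 0 := by
    have := hpol 0 0
    rw [hs0, add_zero, add_zero] at this
    exact left_eq_add.1 this
  have hsymm : ∀ a b, s a b = s b a := fun a b => by
    have h1 := hpol a b; have h2 := hpol b a
    rw [add_comm b a, h1, add_comm (q b)] at h2
    exact add_left_cancel h2
  have hadd' : ∀ a b b', s a (b + b') = s a b + s a b' := fun a b b' => by
    rw [hsymm, hadd, hsymm a b, hsymm a b']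
  have hsinv : ∀ (h : H) a b, s (h • a) (h • b) = s a b := fun h a b => by
    have h1 := hpol (h • a) (h • b)
    rw [← smul_add, hinv, hinv, hinv, hpol a b] at h1
    exact (add_left_cancel h1).symm
  let f : H → ℂ := fun h => ∑ z : rng W h, e p (q z)
  let T : H → ℂ := fun h => ∑ u : W, e p (-q (h • u - u))
  have hnorm : ∀ h, f h * conj (f h) = (Nat.card (rng W h) : ℂ) := by
    intro h
    have hz : ∀ c : rng W h, c ≠ 0 → ∑ b : rng W h, e p (s b c) = 0 := by
      intro c hc
      let χ : AddChar (rng W h) ℂ :=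
        { toFun := fun b => e p (s b c)
          map_zero_eq_one' := by simp [hs0]
          map_add_eq_mul' := fun a b => by simp [hadd, AddChar.map_add_eq_mul] }
      refine AddChar.sum_eq_zero_of_ne_one (ψ := χ) fun h1 => hc ?_
      refine Subtype.ext (hnd c fun b => ?_)
      obtain ⟨z, hz, k, hk, rfl⟩ := exists_rng_add_fixed hW hpH h b
      obtain ⟨u, hu⟩ := c.2
      rw [hadd]
      have e1 : s z c = 0 := ZMod.injective_stdAddChar (by
        rw [AddChar.map_zero_eq_one]; exact DFunLike.congr_fun h1 (⟨z, hz⟩ : rng W h))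
      have e2 : s k c = 0 := by
        rw [← hu, dMap_apply]
        have h3 := hadd' k (h • u - u) u
        rw [sub_add_cancel] at h3
        have h4 : s k (h • u) = s k u := by rw [← hsinv h k u, hk]
        rw [h4] at h3
        exact right_eq_add.1 h3
      rw [e1, e2, add_zero]
    calc f h * conj (f h) = ∑ b : rng W h, ∑ a : rng W h, e p (q a) * e p (-q b) := by
          simp only [f, map_sum, ← AddChar.map_neg_eq_conj, Finset.mul_sum, Finset.sum_mul]
      _ = ∑ b : rng W h, ∑ c : rng W h, e p (q c) * e p (s b c) := by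
          refine Finset.sum_congr rfl fun b _ => ?_
          refine (Fintype.sum_equiv (Equiv.addLeft b) _ _ fun c => ?_).symm
          rw [← AddChar.map_add_eq_mul, ← AddChar.map_add_eq_mul]
          congr 1
          show q c + s b c = q ((b : W) + c) + -q b
          rw [hpol]; ring
      _ = _ := by
          rw [Finset.sum_comm, Finset.sum_eq_single 0]
          · simp [hq0, hsymm _ 0, hs0, Nat.card_eq_fintype_card]
          · intro c _ hc
            rw [← Finset.mul_sum, hz c hc, mul_zero]
          · simp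
  have hT : ∀ h, T h * f h = (Nat.card W : ℂ) := by
    intro h
    have h1 : T h = (Nat.card (dMap (W := W) h).ker : ℂ) * conj (f h) := by
      simp only [T, f, map_sum, ← AddChar.map_neg_eq_conj]
      rw [← nsmul_eq_mul, ← sum_dMap h (fun x : W => e p (-q x))]
      rfl
    rw [h1, mul_assoc, mul_comm (conj (f h)), hnorm, ← Nat.cast_mul, mul_comm, card_rng_mul]
  have hTvirt : IntVirt T := by
    let ρ : Representation ℂ H (W → ℂ) :=
      { toFun := fun h => LinearMap.funLeft ℂ ℂ (fun w : W => h⁻¹ • w)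
        map_one' := LinearMap.ext fun v => funext fun w => by simp
        map_mul' := fun a b => LinearMap.ext fun v => funext fun w => by
          simp [mul_inv_rev, mul_smul] }
    let A : Matrix W W ℂ := Matrix.of fun a b => e p (-q (b - a))
    have hK : IsIntegral ℤ (Matrix.toLinAlgEquiv' A) :=
      (isIntegral_matrix A fun a b => isIntegral_e _).map
        ((Matrix.toLinAlgEquiv' (R := ℂ) (n := W)).toAlgHom.restrictScalars ℤ)
    have hc : ∀ h, Commute (Matrix.toLinAlgEquiv' A) (ρ h) := fun h => by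
      refine LinearMap.ext fun v => funext fun w => ?_
      show A.mulVec (fun x => v (h⁻¹ • x)) w = A.mulVec v (h⁻¹ • w)
      simp only [Matrix.mulVec, dotProduct, A, Matrix.of_apply]
      refine Fintype.sum_equiv (MulAction.toPerm h⁻¹) _ _ fun x => ?_
      simp only [MulAction.toPerm_apply]
      rw [← smul_sub, hinv]
    have := IntVirt.trace_mul ρ hK hc
    convert this using 1
    funext h
    rw [LinearMap.trace_eq_matrix_trace ℂ (Pi.basisFun ℂ W), LinearMap.toMatrix_eq_toMatrix',
      LinearMap.toMatrix'_mul, Matrix.trace]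
    simp only [Matrix.diag_apply, Matrix.mul_apply, LinearMap.toMatrix'_apply]
    simp only [T]
    refine Finset.sum_congr rfl fun w _ => ?_
    rw [Finset.sum_eq_single (h • w)]
    · simp [ρ, A, Matrix.toLinAlgEquiv'_apply, Matrix.mulVec_single, LinearMap.funLeft_apply]
    · intro b _ hb
      have : (ρ h) (Pi.single w (1 : ℂ)) b = 0 := by
        show (Pi.single w (1 : ℂ) : W → ℂ) (h⁻¹ • b) = 0
        rw [Pi.single_eq_of_ne]
        exact fun e => hb (by rw [← e, smul_inv_smul])
      rw [this, mul_zero]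
    · simp
  have hcyc : ∀ h, f h ∈ cycField (p * Nat.card H) := fun h => by
    haveI : NeZero (p * Nat.card H) := ⟨Nat.mul_ne_zero (Fact.out : p.Prime).ne_zero Nat.card_pos.ne'⟩
    exact sum_mem fun z _ => mem_cycField_of_pow_eq_one _ (by rw [pow_mul, e_pow, one_pow])
  refine ⟨f, ⟨hTvirt.of_mul_eq (fun h => IsIntegral.sum _ fun z _ => isIntegral_e _)
    (coprime_card_of_exponent hW hpH) Nat.card_pos.ne' hT, ?_, hnorm, fun h hne => ?_, hcyc⟩⟩
  · have hu : ∀ z : rng W (1 : H), (z : W) = 0 := fun z => by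
      obtain ⟨u, hu⟩ := z.2
      rw [← hu]; simp
    have h1 : Fintype.card (rng W (1 : H)) = 1 := by
      rw [← Nat.card_eq_fintype_card, card_rng_one]
    simp only [f, hu, hq0, AddChar.map_zero_eq_one, Finset.sum_const, Finset.card_univ, h1, one_smul]
  · exact small_sum_e hM (dvd_card_rng hW hne) _

end Cfsg.Lib.RealVector
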