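import Mathlib
import Cfsg.Agent.Blocks.RealVector.Gauss
import Cfsg.Agent.Chars.Basic

/-!
# The character attached to an invariant alternating form

The group algebra of the module twisted by half the form is a matrix algebra; a coprime group
preserving the form acts on it through a representation, obtained here from explicit intertwiners.
-/

set_option autoImplicit false
set_option linter.unusedSectionVars false
set_option linter.unusedSimpArgs false

namespace Cfsg.Lib.RealVector

open Cfsg Cfsg.Lib.Chars Cfsg.Lib.Blocks Matrix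
open scoped ComplexConjugate Classical

universe u v

/-- An invariant alternating nondegenerate form. -/
structure AltForm (p : ℕ) (H : Type u) [Group H] (W : Type v) [AddCommGroup W]
    [DistribMulAction H W] where
  /-- the form -/
  β : W → W → ZMod p
  add_left : ∀ a a' b, β (a + a') b = β a b + β a' b
  add_right : ∀ a b b', β a (b + b') = β a b + β a b'
  self : ∀ a, β a a = 0
  inv : ∀ (h : H) a b, β (h • a) (h • b) = β a b
  nd : ∀ a, (∀ b, β a b = 0) → a = 0

variable {H : Type u} [Group H] [Fintype H] {W : Type v} [AddCommGroup W] [Fintype W]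
  [DistribMulAction H W] {p : ℕ} [Fact p.Prime] (F : AltForm p H W)

namespace AltForm

/-- Half the form. -/
noncomputable def c (a b : W) : ZMod p := (2 : ZMod p)⁻¹ * F.β a b

lemma c_add_left (a a' b : W) : F.c (a + a') b = F.c a b + F.c a' b := by
  rw [c, c, c, F.add_left, mul_add]

lemma c_add_right (a b b' : W) : F.c a (b + b') = F.c a b + F.c a b' := by
  rw [c, c, c, F.add_right, mul_add]

lemma c_self (a : W) : F.c a a = 0 := by rw [c, F.self, mul_zero]

lemma c_swap (a b : W) : F.c b a = -F.c a b := by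
  have h := F.c_self (a + b)
  rw [F.c_add_left, F.c_add_right, F.c_add_right, F.c_self, F.c_self, zero_add, add_zero] at h
  exact eq_neg_of_add_eq_zero_right h

lemma c_zero_left (b : W) : F.c 0 b = 0 := by
  have h := F.c_add_left 0 0 b
  rw [add_zero] at h
  exact left_eq_add.1 h

lemma c_zero_right (a : W) : F.c a 0 = 0 := by rw [F.c_swap 0 a, F.c_zero_left, neg_zero]

lemma c_neg_left (a b : W) : F.c (-a) b = -F.c a b := by
  have h := F.c_add_left (-a) a b
  rw [neg_add_cancel, F.c_zero_left] at h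
  exact eq_neg_of_add_eq_zero_left h.symm

lemma c_neg_right (a b : W) : F.c a (-b) = -F.c a b := by
  rw [F.c_swap, F.c_neg_left, F.c_swap b a]

lemma c_inv (h : H) (a b : W) : F.c (h • a) (h • b) = F.c a b := by rw [c, c, F.inv]

/-- The twisted translation. -/
noncomputable def E (u : W) : Matrix W W ℂ :=
  Matrix.of fun z w => if z = u + w then e p (F.c u w) else 0

lemma E_zero : F.E 0 = 1 := by
  ext z w
  simp [E, Matrix.one_apply, F.c_zero_left]

lemma E_mul (u v : W) : F.E u * F.E v = e p (F.c u v) • F.E (u + v) := by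
  ext z w
  rw [Matrix.mul_apply, Finset.sum_eq_single (v + w)]
  · simp only [E, Matrix.of_apply, Matrix.smul_apply, if_pos rfl, smul_eq_mul, ← add_assoc,
      ite_mul, zero_mul, mul_ite, mul_zero, if_true, if_congr]
    split_ifs with h
    · rw [← AddChar.map_add_eq_mul, ← AddChar.map_add_eq_mul, F.c_add_left, F.c_add_right]
      congr 1; ring
    · rfl
  · intro x _ hx
    simp [E, hx]
  · simp

lemma E_star (u : W) : (F.E u)ᴴ = F.E (-u) := by
  ext z w
  simp only [Matrix.conjTranspose_apply, E, Matrix.of_apply]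
  by_cases h : w = u + z
  · rw [if_pos h, if_pos (by rw [h, neg_add_cancel_left]), Complex.star_def,
      ← AddChar.map_neg_eq_conj, h, F.c_neg_left, F.c_add_right, F.c_self, zero_add]
  · rw [if_neg h, if_neg (fun h' => h (by rw [h', add_neg_cancel_left])), star_zero]

lemma E_apply_zero (u z : W) : F.E u z 0 = if z = u then 1 else 0 := by
  simp [E, F.c_zero_right]

/-- The twisted algebra. -/
noncomputable def alg : Submodule ℂ (Matrix W W ℂ) := Submodule.span ℂ (Set.range F.E)

lemma E_mem (u : W) : F.E u ∈ F.alg := Submodule.subset_span ⟨u, rfl⟩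

lemma mul_mem {X Y : Matrix W W ℂ} (hX : X ∈ F.alg) (hY : Y ∈ F.alg) : X * Y ∈ F.alg := by
  induction hX using Submodule.span_induction with
  | mem X hX =>
    obtain ⟨u, rfl⟩ := hX
    induction hY using Submodule.span_induction with
    | mem Y hY =>
      obtain ⟨v, rfl⟩ := hY
      rw [F.E_mul]
      exact Submodule.smul_mem _ _ (F.E_mem _)
    | zero => rw [mul_zero]; exact Submodule.zero_mem _
    | add a b _ _ ha hb => rw [mul_add]; exact Submodule.add_mem _ ha hb
    | smul k a _ ha => rw [mul_smul_comm]; exact Submodule.smul_mem _ _ ha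
  | zero => rw [zero_mul]; exact Submodule.zero_mem _
  | add a b _ _ ha hb => rw [add_mul]; exact Submodule.add_mem _ ha hb
  | smul k a _ ha => rw [smul_mul_assoc]; exact Submodule.smul_mem _ _ ha

lemma star_mem {X : Matrix W W ℂ} (hX : X ∈ F.alg) : Xᴴ ∈ F.alg := by
  induction hX using Submodule.span_induction with
  | mem X hX =>
    obtain ⟨u, rfl⟩ := hX
    rw [F.E_star]; exact F.E_mem _
  | zero => rw [conjTranspose_zero]; exact Submodule.zero_mem _
  | add a b _ _ ha hb => rw [conjTranspose_add]; exact Submodule.add_mem _ ha hb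
  | smul k a _ ha => rw [conjTranspose_smul]; exact Submodule.smul_mem _ _ ha

lemma eq_sum_of_mem {X : Matrix W W ℂ} (hX : X ∈ F.alg) : X = ∑ u, X u 0 • F.E u := by
  obtain ⟨a, ha⟩ := (Submodule.mem_span_range_iff_exists_fun ℂ).1 hX
  have : ∀ u, X u 0 = a u := fun u => by
    rw [← ha, Matrix.sum_apply]
    simp [F.E_apply_zero]
  simp only [this]
  exact ha.symm

lemma trace_of_mem {X : Matrix W W ℂ} (hX : X ∈ F.alg) :
    X.trace = (Nat.card W : ℂ) * X 0 0 := by
  conv_lhs => rw [F.eq_sum_of_mem hX]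
  rw [Matrix.trace_sum, Finset.sum_eq_single 0]
  · rw [F.E_zero, Matrix.trace_smul, Matrix.trace_one, smul_eq_mul, mul_comm,
      Nat.card_eq_fintype_card]
  · intro u _ hu
    rw [Matrix.trace_smul, Matrix.trace, Finset.sum_eq_zero fun z _ => ?_, smul_zero]
    simp [E, hu]
  · simp

/-- The centre of the twisted algebra is the scalars. -/
lemma eq_scalar (hp2 : p ≠ 2) {X : Matrix W W ℂ} (hX : X ∈ F.alg)
    (h : ∀ v, X * F.E v = F.E v * X) : X = X 0 0 • (1 : Matrix W W ℂ) := by
  conv_lhs => rw [F.eq_sum_of_mem hX]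
  rw [Finset.sum_eq_single 0, F.E_zero]
  · intro u _ hu
    suffices X u 0 = 0 by rw [this, zero_smul]
    by_contra hne
    refine hu (F.nd u fun v => ?_)
    have h1 := congrFun (congrFun (h v) (u + v)) 0
    rw [F.eq_sum_of_mem hX, Finset.sum_mul, Finset.mul_sum, Matrix.sum_apply, Matrix.sum_apply,
      Finset.sum_eq_single u, Finset.sum_eq_single u] at h1
    · simp only [smul_mul_assoc, mul_smul_comm, F.E_mul, Matrix.smul_apply, smul_eq_mul,
        add_comm v u, F.E_apply_zero, if_true, mul_one] at h1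
      have h2 : F.c u v = F.c v u := ZMod.injective_stdAddChar (mul_left_cancel₀ hne h1)
      rw [F.c_swap u v, eq_neg_iff_add_eq_zero, c, ← two_mul, ← mul_assoc] at h2
      rwa [mul_inv_cancel₀, one_mul] at h2
      intro h3
      have h4 : ((2 : ℕ) : ZMod p) = 0 := by exact_mod_cast h3
      rw [ZMod.natCast_eq_zero_iff] at h4 <;>
        exact hp2 ((Nat.prime_dvd_prime_iff_eq Fact.out Nat.prime_two).1 h4)
    · intro b _ hb
      simp only [mul_smul_comm, F.E_mul, Matrix.smul_apply, smul_eq_mul, F.E_apply_zero]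
      rw [if_neg fun he => hb (by rw [add_comm u v] at he; exact (add_left_cancel he).symm)]
      simp
    · simp
    · intro b _ hb
      simp only [smul_mul_assoc, F.E_mul, Matrix.smul_apply, smul_eq_mul, F.E_apply_zero]
      rw [if_neg fun he => hb (add_right_cancel he).symm]
      simp
    · simp
  · simp

/-- The intertwiner. -/
noncomputable def P2 (h : H) : Matrix W W ℂ := ∑ u : rng W h, F.E (h • (u : W)) * F.E (-(u : W))

lemma P2_mem (h : H) : F.P2 h ∈ F.alg :=
  Submodule.sum_mem _ fun _ _ => F.mul_mem (F.E_mem _) (F.E_mem _)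

lemma P2_apply_zero (h : H) (z : W) : F.P2 h z 0 =
    ∑ u : rng W h, if z = dMap h (u : W) then e p (F.c (h • (u : W)) (-(u : W))) else 0 := by
  simp only [P2, Matrix.sum_apply, F.E_mul, Matrix.smul_apply, F.E_apply_zero, smul_eq_mul,
    mul_ite, mul_one, mul_zero, dMap_apply, sub_eq_add_neg]

variable (hW : ∀ w : W, p • w = 0) (hpH : ¬ p ∣ Nat.card H)
include hW hpH

lemma P2_zero_zero (h : H) : F.P2 h 0 0 = 1 := by
  rw [F.P2_apply_zero, Finset.sum_eq_single 0]
  · simp [F.c_zero_left]
  · intro u _ hu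
    rw [if_neg fun he => hu ?_]
    refine Subtype.ext (eq_zero_of_fixed hW hpH u.2 ?_)
    rw [dMap_apply] at he
    exact sub_eq_zero.1 he.symm
  · simp

lemma P2_intertwine (h : H) (v : W) : F.P2 h * F.E v = F.E (h • v) * F.P2 h := by
  have hfix : ∀ k : W, h • k = k → F.P2 h * F.E k = F.E k * F.P2 h := by
    intro k hk
    rw [P2, Finset.sum_mul, Finset.mul_sum]
    refine Finset.sum_congr rfl fun u _ => ?_
    have h0 : F.c (h • (u : W) + -(u : W)) k = 0 := by
      rw [F.c_add_left, F.c_neg_left]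
      conv_lhs => arg 1; rw [← hk, F.c_inv]
      rw [add_neg_cancel]
    rw [F.E_mul, smul_mul_assoc, mul_smul_comm, F.E_mul, F.E_mul, h0,
      F.c_swap _ k, h0, neg_zero, add_comm k]
  have hrng : ∀ a ∈ rng W h, F.P2 h * F.E a = F.E (h • a) * F.P2 h := by
    intro a ha
    rw [P2, Finset.sum_mul, Finset.mul_sum]
    refine (Fintype.sum_equiv (Equiv.addLeft (⟨a, ha⟩ : rng W h)) _ _ fun u => ?_).symm
    show F.E (h • a) * (F.E (h • (u : W)) * F.E (-(u : W))) =
      F.E (h • (a + (u : W))) * F.E (-(a + (u : W))) * F.E a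
    rw [← mul_assoc, F.E_mul (h • a), ← smul_add, mul_assoc, F.E_mul (-(a + (u : W))) a,
      show -(a + (u : W)) + a = -(u : W) by abel, mul_smul_comm, smul_mul_assoc, F.c_inv]
    congr 2
    rw [F.c_neg_left, F.c_add_left, F.c_self, zero_add, ← F.c_swap]
  obtain ⟨a, ha, k, hk, rfl⟩ := exists_rng_add_fixed hW hpH h v
  have hak : F.c a k = 0 := by
    obtain ⟨u, rfl⟩ := ha
    rw [dMap_apply, sub_eq_add_neg, F.c_add_left, F.c_neg_left]
    conv_lhs => arg 1; rw [← hk, F.c_inv]
    rw [add_neg_cancel]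
  have hE : ∀ x, F.c x k = 0 → F.E (x + k) = F.E x * F.E k := fun x hx => by
    rw [F.E_mul, hx, AddChar.map_zero_eq_one, one_smul]
  rw [smul_add, hk, hE a hak, ← mul_assoc, hrng a ha, mul_assoc, hfix k hk, ← mul_assoc,
    hE (h • a) (by conv_lhs => rw [← hk, F.c_inv]; exact hak)]

lemma P2_star_intertwine (h : H) (v : W) : (F.P2 h)ᴴ * F.E (h • v) = F.E v * (F.P2 h)ᴴ := by
  have h1 := congrArg Matrix.conjTranspose (F.P2_intertwine hW hpH h (-v))
  rw [conjTranspose_mul, conjTranspose_mul, F.E_star, F.E_star, smul_neg, neg_neg, neg_neg] at h1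
  exact h1.symm

lemma star_mul_P2 (hp2 : p ≠ 2) (h : H) :
    (F.P2 h)ᴴ * F.P2 h = (Nat.card (rng W h) : ℂ) • (1 : Matrix W W ℂ) := by
  have h1 := F.eq_scalar hp2 (F.mul_mem (F.star_mem (F.P2_mem h)) (F.P2_mem h)) fun v => by
    rw [mul_assoc, F.P2_intertwine hW hpH, ← mul_assoc, F.P2_star_intertwine hW hpH, mul_assoc]
  rw [h1]
  congr 1
  rw [Matrix.mul_apply]
  simp only [Matrix.conjTranspose_apply, Complex.star_def]
  have hval : ∀ z, conj (F.P2 h z 0) * F.P2 h z 0 = if z ∈ rng W h then 1 else 0 := by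
    intro z
    by_cases hz : z ∈ rng W h
    · obtain ⟨u, hu⟩ := (dMap_bijective hW hpH h).2 ⟨z, hz⟩
      have hu' : dMap h (u : W) = z := congrArg Subtype.val hu
      rw [if_pos hz, F.P2_apply_zero, Finset.sum_eq_single u, if_pos hu'.symm,
        ← AddChar.map_neg_eq_conj, ← AddChar.map_add_eq_mul, neg_add_cancel,
        AddChar.map_zero_eq_one]
      · intro b _ hb
        rw [if_neg fun he => hb ((dMap_bijective hW hpH h).1 (hu.trans (Subtype.ext he)).symm)]
      · simp
    · rw [if_neg hz, F.P2_apply_zero, Finset.sum_eq_zero fun u _ =>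
        if_neg fun he => hz (by rw [he]; exact ⟨(u : W), rfl⟩), mul_zero]
  rw [Finset.sum_congr rfl fun z _ => hval z, Finset.sum_boole, Nat.card_eq_fintype_card,
    Fintype.card_subtype]

/-- An intertwiner in the algebra is a multiple of the standard one. -/
lemma exists_smul_P2 (hp2 : p ≠ 2) (h : H) {X : Matrix W W ℂ} (hX : X ∈ F.alg)
    (hi : ∀ v, X * F.E v = F.E (h • v) * X) : ∃ k : ℂ, X = k • F.P2 h := by
  have hn : (Nat.card (rng W h) : ℂ) ≠ 0 := Nat.cast_ne_zero.2 Nat.card_pos.ne'
  have h1 := F.eq_scalar hp2 (F.mul_mem (F.star_mem (F.P2_mem h)) hX) fun v => by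
    rw [mul_assoc, hi, ← mul_assoc, F.P2_star_intertwine hW hpH, mul_assoc]
  have hl : ((Nat.card (rng W h) : ℂ)⁻¹ • (F.P2 h)ᴴ) * F.P2 h = 1 := by
    rw [smul_mul_assoc, F.star_mul_P2 hW hpH hp2, smul_smul, inv_mul_cancel₀ hn, one_smul]
  refine ⟨(Nat.card (rng W h) : ℂ)⁻¹ * ((F.P2 h)ᴴ * X) 0 0, ?_⟩
  calc X = F.P2 h * ((Nat.card (rng W h) : ℂ)⁻¹ • (F.P2 h)ᴴ) * X := by
        rw [mul_eq_one_comm.1 hl, one_mul]
    _ = _ := by
        rw [mul_smul_comm, smul_mul_assoc, mul_assoc]
        conv_lhs => rw [h1]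
        simp [smul_smul]

lemma exists_representation (hp2 : p ≠ 2) :
    ∃ P : H →* Matrix W W ℂ, ∀ h, ∃ μ : ℂ, P h = μ • F.P2 h ∧ (P h).det = 1 := by
  set d := Fintype.card W with hd
  have hd0 : 0 < d := Fintype.card_pos
  have hdet : ∀ h, (F.P2 h).det ≠ 0 := fun h hz => by
    have h1 := congrArg Matrix.det (F.star_mul_P2 hW hpH hp2 h)
    rw [det_mul, hz, mul_zero, det_smul, det_one, mul_one] at h1
    exact pow_ne_zero _ (Nat.cast_ne_zero.2 (Nat.card_pos (α := rng W h)).ne') h1.symm
  choose t ht using fun h => IsAlgClosed.exists_pow_nat_eq ((F.P2 h).det)⁻¹ hd0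
  obtain ⟨P0, hP0⟩ : ∃ P0 : H → Matrix W W ℂ, ∀ h, P0 h = t h • F.P2 h := ⟨_, fun _ => rfl⟩
  have h0det : ∀ h, (P0 h).det = 1 := fun h => by
    rw [hP0, det_smul, ← hd, ht, inv_mul_cancel₀ (hdet h)]
  have h0i : ∀ h v, P0 h * F.E v = F.E (h • v) * P0 h := fun h v => by
    simp only [hP0, smul_mul_assoc, mul_smul_comm, F.P2_intertwine hW hpH]
  have hα : ∀ g h, ∃ a : ℂ, P0 g * P0 h = a • P0 (g * h) := by
    intro g h
    obtain ⟨k, hk⟩ := F.exists_smul_P2 hW hpH hp2 (g * h)
      (F.mul_mem (Submodule.smul_mem _ (t g) (F.P2_mem g)) (Submodule.smul_mem _ (t h) (F.P2_mem h)))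
      fun v => by rw [← hP0, ← hP0, mul_assoc, h0i, ← mul_assoc, h0i, mul_assoc, smul_smul]
    refine ⟨k / t (g * h), ?_⟩
    have hne : t (g * h) ≠ 0 := fun hz => by
      have := ht (g * h)
      rw [hz, zero_pow hd0.ne'] at this
      exact inv_ne_zero (hdet _) this.symm
    simp only [hP0, smul_smul, div_mul_cancel₀ _ hne]
    exact hk
  choose α hα using hα
  have hαd : ∀ g h, α g h ^ d = 1 := fun g h => by
    have h1 := congrArg Matrix.det (hα g h)
    rwa [det_mul, h0det, h0det, det_smul, h0det, one_mul, mul_one, eq_comm, ← hd] at h1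
  have hcoc : ∀ g h x, α g h * α (g * h) x = α h x * α g (h * x) := fun g h x => by
    have h1 : (P0 g * P0 h) * P0 x = P0 g * (P0 h * P0 x) := mul_assoc _ _ _
    rw [hα g h, hα h x, smul_mul_assoc, hα (g * h) x, mul_smul_comm, hα g (h * x), smul_smul, smul_smul, mul_assoc g] at h1
    have h2 := congrArg Matrix.det h1
    by_contra hne
    have h3 : (α g h * α (g * h) x - α h x * α g (h * x)) • P0 (g * (h * x)) = 0 := by
      rw [sub_smul, h1, sub_self]
    rcases smul_eq_zero.1 h3 with h4 | h4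
    · exact hne (sub_eq_zero.1 h4)
    · have := h0det (g * (h * x))
      rw [h4, det_zero] at this
      exact zero_ne_one this
  let f : H → ℂ := fun g => ∏ x : H, α g x
  have hf : ∀ g h, α g h ^ Nat.card H * f (g * h) = f h * f g := fun g h => by
    simp only [f]
    rw [Nat.card_eq_fintype_card, ← Finset.card_univ, ← Finset.prod_const, ← Finset.prod_mul_distrib,
      Finset.prod_congr rfl fun x _ => hcoc g h x, Finset.prod_mul_distrib]
    congr 1
    exact Fintype.prod_equiv (Equiv.mulLeft h) _ _ fun x => rfl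
  have hcop : Nat.Coprime (Nat.card H) d := by
    rw [hd, ← Nat.card_eq_fintype_card]
    exact (coprime_card_of_exponent hW hpH).symm
  obtain ⟨v', hv0', hv1'⟩ := Nat.chineseRemainder hcop 0 1
  obtain ⟨w', hw'⟩ := Nat.modEq_zero_iff_dvd.1 hv0'
  have hfd : ∀ g, f g ^ d = 1 := fun g => by
    rw [← Finset.prod_pow]; exact Finset.prod_eq_one fun x _ => hαd g x
  have hf0 : ∀ g, f g ≠ 0 := fun g hz => by
    have := hfd g
    rw [hz, zero_pow hd0.ne'] at this
    exact zero_ne_one this
  have hα0 : ∀ g h, α g h = (f h * f g / f (g * h)) ^ w' := fun g h => by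
    rw [← hf g h, mul_div_cancel_right₀ _ (hf0 _), ← pow_mul, ← hw']
    conv_lhs => rw [← pow_one (α g h)]
    exact pow_eq_pow_of_modEq hv1'.symm (hαd g h)
  let Q : H → Matrix W W ℂ := fun g => ((f g)⁻¹ ^ w') • P0 g
  have hmul : ∀ g h, Q g * Q h = Q (g * h) := fun g h => by
    show ((f g)⁻¹ ^ w' • P0 g) * ((f h)⁻¹ ^ w' • P0 h) = (f (g * h))⁻¹ ^ w' • P0 (g * h)
    rw [smul_mul_smul_comm, hα g h, smul_smul]
    congr 1
    rw [hα0]
    rw [mul_comm (f h) (f g), div_pow, mul_pow, inv_pow, inv_pow, inv_pow, div_eq_mul_inv, ← mul_assoc,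
      ← mul_inv, inv_mul_cancel₀ (mul_ne_zero (pow_ne_zero _ (hf0 g)) (pow_ne_zero _ (hf0 h))), one_mul]
  have hQdet : ∀ g, (Q g).det = 1 := fun g => by
    rw [det_smul, h0det, mul_one, ← hd, ← pow_mul, mul_comm w', pow_mul, inv_pow, hfd, inv_one,
      one_pow]
  have hQ1 : Q 1 = 1 := by
    have h1 := hmul 1 1
    rw [mul_one] at h1
    exact ((Matrix.isUnit_iff_isUnit_det _).2 (by rw [hQdet]; exact isUnit_one)).mul_eq_left.1 h1
  refine ⟨{ toFun := Q, map_one' := hQ1, map_mul' := fun g h => (hmul g h).symm }, fun g => ⟨(f g)⁻¹ ^ w' * t g, ?_, hQdet g⟩⟩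
  show Q g = _
  simp only [Q, hP0, smul_smul]

end AltForm

/-- **The function attached to an invariant alternating form.** -/
theorem exists_omega_alt {M : Ideal AlgInt} (hM : IsPModular p M) (hW : ∀ w : W, p • w = 0)
    (hpH : ¬ p ∣ Nat.card H) (hp2 : p ≠ 2) (F : AltForm p H W) :
    ∃ f : H → ℂ, IsOmega M p H W f := by
  obtain ⟨P, hP⟩ := F.exists_representation hW hpH hp2
  choose μ hμ hdet using hP
  let T : H → ℂ := fun h => (P h).trace
  have hT : ∀ h, T h = (Nat.card W : ℂ) * μ h := fun h => by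
    show (P h).trace = _
    rw [hμ, Matrix.trace_smul, F.trace_of_mem (F.P2_mem h), F.P2_zero_zero hW hpH, mul_one,
      smul_eq_mul, mul_comm]
  have hd0 : Fintype.card W ≠ 0 := Fintype.card_pos.ne'
  have hn : ∀ h, μ h * conj (μ h) * (Nat.card (rng W h) : ℂ) = 1 := by
    intro h
    have h1 : (P h)ᴴ * P h = (μ h * conj (μ h) * (Nat.card (rng W h) : ℂ)) • (1 : Matrix W W ℂ) := by
      rw [hμ, conjTranspose_smul, smul_mul_assoc, mul_smul_comm, F.star_mul_P2 hW hpH hp2, smul_smul,
        smul_smul, Complex.star_def, mul_comm (conj (μ h))]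
    have h2 := congrArg Matrix.det h1
    rw [det_mul, det_conjTranspose, hdet, star_one, one_mul, det_smul, det_one, mul_one,
      Complex.mul_conj] at h2
    rw [Complex.mul_conj]
    have h3 : (Complex.normSq (μ h) * (Nat.card (rng W h) : ℝ)) ^ Fintype.card W = 1 := by
      exact_mod_cast h2.symm
    have h4 := (pow_eq_one_iff_of_nonneg (mul_nonneg (Complex.normSq_nonneg _) (Nat.cast_nonneg _))
      hd0).1 h3
    exact_mod_cast h4
  have hμ0 : ∀ h, μ h ≠ 0 := fun h hz => by simpa [hz] using hn h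
  let f : H → ℂ := fun h => (μ h)⁻¹
  have hP2 : ∀ h, ∀ m : ℕ, P h ^ m = (μ h) ^ m • F.P2 h ^ m := fun h m => by rw [hμ, smul_pow]
  have hfpow : ∀ h, ∀ k : ℕ, f h ^ (k * Nat.card H) = (F.P2 h ^ (k * Nat.card H)) 0 0 := by
    intro h k
    have h1 := hP2 h (k * Nat.card H)
    rw [← map_pow, mul_comm k, pow_mul, pow_card_eq_one', one_pow, map_one] at h1
    have h2 := congrFun (congrFun h1 0) 0
    rw [Matrix.one_apply_eq, Matrix.smul_apply, smul_eq_mul] at h2
    simp only [f]
    rw [mul_comm k, inv_pow]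
    exact inv_eq_of_mul_eq_one_right h2.symm
  have hentry : ∀ h z w, IsIntegral ℤ (F.P2 h z w) := fun h z w => by
    simp only [AltForm.P2, Matrix.sum_apply, Matrix.mul_apply]
    refine IsIntegral.sum _ fun u _ => IsIntegral.sum _ fun x _ => IsIntegral.mul ?_ ?_ <;>
      · simp only [AltForm.E, Matrix.of_apply]
        split_ifs
        · exact isIntegral_e _
        · exact isIntegral_zero
  have hfint : ∀ h, IsIntegral ℤ (f h) := fun h => by
    refine IsIntegral.of_pow (Nat.card_pos (α := H)) ?_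
    rw [← one_mul (Nat.card H), hfpow]
    let A : Matrix W W (integralClosure ℤ ℂ) := Matrix.of fun z w => ⟨F.P2 h z w, hentry h z w⟩
    have h1 : F.P2 h = (integralClosure ℤ ℂ).val.mapMatrix A := by ext z w; simp [A]
    rw [h1, ← map_pow]
    exact ((A ^ (1 * Nat.card H)) 0 0).2
  have hTchar : IsCharacter H T := by
    let ρ : Representation ℂ H (W → ℂ) :=
      MonoidHom.comp (Matrix.toLinAlgEquiv' (R := ℂ) (n := W) : Matrix W W ℂ →* Module.End ℂ (W → ℂ)) P
    have := isCharacter_character ρ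
    convert this using 1
    funext h
    exact (Matrix.trace_toLin'_eq (P h)).symm
  haveI : NeZero (p * Nat.card H) := ⟨Nat.mul_ne_zero (Fact.out : p.Prime).ne_zero Nat.card_pos.ne'⟩
  refine ⟨f, ⟨(IntVirt.of_isCharacter hTchar).of_mul_eq hfint (coprime_card_of_exponent hW hpH)
    Nat.card_pos.ne' (fun h => by simp only [f]; rw [hT, mul_assoc, mul_inv_cancel₀ (hμ0 h), mul_one]),
    ?_, fun h => ?_, fun h hne => ?_, fun h => ?_⟩⟩
  · simp only [f]
    have h1 : T 1 = (Nat.card W : ℂ) := by
      show (P 1).trace = _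
      rw [map_one, Matrix.trace_one, Nat.card_eq_fintype_card]
    rw [hT, mul_eq_left₀ (Nat.cast_ne_zero.2 Nat.card_pos.ne')] at h1
    rw [h1, inv_one]
  · simp only [f]
    rw [map_inv₀, ← mul_inv]
    exact inv_eq_of_mul_eq_one_right (hn h)
  · have hfi : f h ∈ place M := isIntegral_mem_place hM (hfint h)
    suffices hs : res M (f h) ^ (2 * Nat.card H) = 0 from
      (res_eq_zero_iff hfi).1 ((pow_eq_zero_iff (Nat.mul_ne_zero two_ne_zero Nat.card_pos.ne')).1 hs)
    let A : Matrix W W (place M) :=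
      Matrix.of fun z w => ⟨F.P2 h z w, isIntegral_mem_place hM (hentry h z w)⟩
    have hA : F.P2 h = (place M).subtype.mapMatrix A := by ext z w; simp [A]
    let J : Matrix W W (Res M) := (IsLocalRing.residue (place M)).mapMatrix A
    have hJ : ∀ z w, J z w = if z - w ∈ rng W h then 1 else 0 := by
      intro z w
      show IsLocalRing.residue (place M) (A z w) = _
      rw [← res_coe]
      show res M (F.P2 h z w) = _
      simp only [AltForm.P2, F.E_mul]
      simp only [Matrix.sum_apply, Matrix.smul_apply, AltForm.E,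
        Matrix.of_apply, smul_eq_mul, mul_ite, mul_zero]
      have hre : ∀ a b : ZMod p, res M (e p a * e p b) = 1 := fun a b =>
        res_eq_one_of_pow hM (by rw [mul_pow, e_pow, e_pow, one_mul])
      rw [res_sum _ _ fun u _ => by
        split_ifs
        · exact isIntegral_mem_place hM ((isIntegral_e _).mul (isIntegral_e _))
        · exact zero_mem _]
      simp only [apply_ite (res M), hre, res_zero]
      by_cases hz : z - w ∈ rng W h
      · obtain ⟨u, hu⟩ := (dMap_bijective hW hpH h).2 ⟨_, hz⟩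
        have hu' : dMap h (u : W) = z - w := congrArg Subtype.val hu
        rw [if_pos hz, Finset.sum_eq_single u, if_pos]
        · rw [← sub_eq_iff_eq_add, ← hu', dMap_apply, sub_eq_add_neg]
        · intro b _ hb
          rw [if_neg fun he => hb ((dMap_bijective hW hpH h).1 (Subtype.ext ?_))]
          show dMap h (b : W) = dMap h (u : W)
          rw [hu', he, dMap_apply, add_sub_cancel_right, sub_eq_add_neg]
        · simp
      · rw [if_neg hz, Finset.sum_eq_zero fun u _ => if_neg fun he => hz ?_]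
        rw [he, add_sub_cancel_right, ← sub_eq_add_neg]
        exact mem_rng h (u : W)
    have hJ2 : J * J = 0 := by
      ext a b
      rw [Matrix.mul_apply, Matrix.zero_apply]
      simp only [hJ, mul_ite, mul_one, mul_zero, ← ite_and]
      rw [Finset.sum_boole]
      by_cases hab : a - b ∈ rng W h
      · rw [res_natCast_eq_zero_iff hM]
        refine (dvd_card_rng hW hne).trans (dvd_of_eq ?_)
        rw [← Finset.card_univ]
        refine Finset.card_bij' (fun (k : rng W h) _ => b + (k : W))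
          (fun c hc => (⟨c - b, (Finset.mem_filter.1 hc).2.1⟩ : rng W h)) ?_ (fun _ _ => Finset.mem_univ _)
          (fun k _ => Subtype.ext (add_sub_cancel_left _ _)) (fun c _ => add_sub_cancel _ _)
        intro k _
        refine Finset.mem_filter.2 ⟨Finset.mem_univ _, ?_, ?_⟩
        · rw [add_sub_cancel_left]; exact k.2
        · rw [← sub_sub]; exact sub_mem hab k.2
      · rw [Finset.filter_eq_empty_iff.2 fun c _ hc => hab ?_, Finset.card_empty, Nat.cast_zero]
        rw [← sub_add_sub_cancel a c b]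
        exact add_mem hc.2 hc.1
    have hk : ∀ k, res M (f h ^ k) = res M (f h) ^ k := fun k => by
      induction k with
      | zero => rw [pow_zero, pow_zero, res_one]
      | succ k ih => rw [pow_succ, res_mul (pow_mem hfi k) hfi, ih, pow_succ]
    rw [← hk, hfpow h 2, hA, ← map_pow]
    show res M (((A ^ (2 * Nat.card H)) 0 0 : place M) : ℂ) = 0
    rw [res_coe]
    have h2 : J ^ (2 * Nat.card H) = 0 := by
      rw [pow_mul, sq, hJ2, zero_pow Nat.card_pos.ne']
    have h3 := congrFun (congrFun h2 0) 0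
    rwa [← map_pow] at h3
  · have h1 : f h = (Nat.card W : ℂ) / T h := by
      rw [hT, div_mul_eq_div_div, div_self (Nat.cast_ne_zero.2 Nat.card_pos.ne'), one_div]
    rw [h1]
    exact div_mem (natCast_mem _ _)
      (IsCharacter.mem_cycField hTchar (dvd_mul_of_dvd_right (orderOf_dvd_natCard h) p))

end Cfsg.Lib.RealVector
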