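import Mathlib
import Cfsg.Agent.Blocks.RealVector.Gauss
import Cfsg.Agent.Blocks.RealVector.Twisted

/-!
# The function attached to a faithful module with a nondegenerate invariant pairing

The symmetrisation of the pairing is nondegenerate on the quotient by its radical, and the
commutator space of the kernel of that quotient lies in the radical, where the pairing is
alternating and nondegenerate.
-/

set_option autoImplicit false
set_option linter.unusedSectionVars false
set_option linter.unusedSimpArgs false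

namespace Cfsg.Lib.RealVector

open Cfsg Cfsg.Lib.Chars Cfsg.Lib.Blocks
open scoped ComplexConjugate Classical

universe u v

variable {H : Type u} [Group H] [Fintype H] {U : Type v} [AddCommGroup U] [Fintype U]
  [DistribMulAction H U] {p : ℕ} [Fact p.Prime] {M : Ideal AlgInt}

/-- The action on the quotient by an invariant subgroup. -/
noncomputable abbrev quotAction (R : AddSubgroup U) (hR : ∀ (h : H), ∀ r ∈ R, h • r ∈ R) :
    DistribMulAction H (U ⧸ R) where
  smul h := QuotientAddGroup.map R R (DistribSMul.toAddMonoidHom U h) fun r hr => hR h r hr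
  one_smul x := QuotientAddGroup.induction_on x fun a => congrArg _ (one_smul H a)
  mul_smul g h x := QuotientAddGroup.induction_on x fun a => congrArg _ (mul_smul g h a)
  smul_zero h := map_zero (QuotientAddGroup.map R R (DistribSMul.toAddMonoidHom U h) _)
  smul_add h x y := map_add (QuotientAddGroup.map R R (DistribSMul.toAddMonoidHom U h) _) x y

/-- The action on an invariant subgroup. -/
noncomputable abbrev subAction (Y : AddSubgroup U) (hY : ∀ (h : H), ∀ y ∈ Y, h • y ∈ Y) :
    DistribMulAction H Y where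
  smul h y := ⟨h • (y : U), hY h y y.2⟩
  one_smul y := Subtype.ext (one_smul H (y : U))
  mul_smul g h y := Subtype.ext (mul_smul g h (y : U))
  smul_zero h := Subtype.ext (smul_zero h)
  smul_add h x y := Subtype.ext (smul_add h (x : U) (y : U))

/-- Over the field with two elements an alternating form invariant under a group of odd order
comes from an invariant quadratic form. -/
lemma exists_invariant_quadratic (hU : ∀ u : U, 2 • u = 0) (hH : ¬ 2 ∣ Nat.card H)
    (s : U → U → ZMod 2) (hl : ∀ a a' b, s (a + a') b = s a b + s a' b)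
    (hr : ∀ a b b', s a (b + b') = s a b + s a b') (h0 : ∀ a, s a a = 0)
    (hinv : ∀ (h : H) a b, s (h • a) (h • b) = s a b) :
    ∃ q : U → ZMod 2, (∀ a b, q (a + b) = q a + q b + s a b) ∧ ∀ (h : H) a, q (h • a) = q a := by
  letI : Module (ZMod 2) U := AddCommGroup.zmodModule hU
  let B : U →ₗ[ZMod 2] U →ₗ[ZMod 2] ZMod 2 :=
    AddMonoidHom.toZModLinearMap 2 (AddMonoidHom.mk' (fun a =>
      AddMonoidHom.toZModLinearMap 2 (AddMonoidHom.mk' (s a) (hr a)))
      fun a a' => LinearMap.ext fun b => hl a a' b)
  have hB : ∀ a b, B a b = s a b := fun a b => rfl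
  let b := Module.finBasis (ZMod 2) U
  let n := Module.finrank (ZMod 2) U
  let c : Fin n → Fin n → ZMod 2 := fun i j => if i < j then s (b i) (b j) else 0
  let q0 : U → ZMod 2 := fun u => ∑ i, ∑ j, b.repr u i * b.repr u j * c i j
  have hsym : ∀ i j, s (b j) (b i) = s (b i) (b j) := fun i j => by
    have h := h0 (b i + b j)
    rw [hl, hr, hr, h0, h0, zero_add, add_zero] at h
    rw [eq_neg_of_add_eq_zero_right h, ZMod.neg_eq_self_mod_two]
  have hpol : ∀ x y, q0 (x + y) = q0 x + q0 y + s x y := by
    intro x y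
    have hs : s x y = ∑ i, ∑ j, b.repr x i * b.repr y j * s (b i) (b j) := by
      rw [← hB]
      conv_lhs => rw [← b.sum_repr x, ← b.sum_repr y]
      simp only [map_sum, map_smul, LinearMap.sum_apply, LinearMap.smul_apply, hB, smul_eq_mul,
        Finset.mul_sum]
      rw [Finset.sum_comm]
      exact Finset.sum_congr rfl fun i _ => Finset.sum_congr rfl fun j _ => by ring
    have hsplit : ∀ i j, s (b i) (b j) = c i j + c j i := fun i j => by
      simp only [c]
      rcases lt_trichotomy i j with h | h | h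
      · rw [if_pos h, if_neg (not_lt.2 h.le), add_zero]
      · subst h; simp [h0]
      · rw [if_neg (not_lt.2 h.le), if_pos h, zero_add, hsym]
    have hswap : ∑ i, ∑ j, b.repr y i * b.repr x j * c i j =
        ∑ i, ∑ j, b.repr x i * b.repr y j * c j i := by
      rw [Finset.sum_comm]
      exact Finset.sum_congr rfl fun i _ => Finset.sum_congr rfl fun j _ => by ring
    rw [hs]
    simp only [q0, map_add, Finsupp.add_apply, hsplit, mul_add, add_mul, Finset.sum_add_distrib,
      ← hswap]
    ring
  refine ⟨fun u => ∑ h : H, q0 (h • u), fun x y => ?_, fun h u => ?_⟩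
  · simp only [smul_add, hpol, hinv, Finset.sum_add_distrib, Finset.sum_const, Finset.card_univ,
      nsmul_eq_mul]
    rw [← Nat.card_eq_fintype_card,
      ZMod.natCast_eq_one_iff_odd.2 (Nat.odd_iff.2 (Nat.two_dvd_ne_zero.1 hH)), one_mul]
  · exact Fintype.sum_equiv (Equiv.mulRight h) _ _ fun k => by simp [mul_smul]

/-- **The function of a faithful module with a nondegenerate invariant pairing.** -/
theorem exists_omega_pairing (hM : IsPModular p M) (hU : ∀ u : U, p • u = 0)
    (hpH : ¬ p ∣ Nat.card H) (hfaith : ∀ h : H, (∀ u : U, h • u = u) → h = 1)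
    (β : U → U → ZMod p) (hl : ∀ a a' b, β (a + a') b = β a b + β a' b)
    (hr : ∀ a b b', β a (b + b') = β a b + β a b')
    (hinv : ∀ (h : H) a b, β (h • a) (h • b) = β a b) (hnd : ∀ a, (∀ b, β a b = 0) → a = 0) :
    ∃ f : H → ℂ, IntVirt f ∧ f 1 = 1 ∧ (∀ h, h ≠ 1 → Small M (f h)) ∧
      (∀ h, f h ∈ cycField (p * Nat.card H)) ∧
      ∀ h, ∃ N : ℕ, f h * conj (f h) = (N : ℂ) ∧ N ≤ Nat.card (rng U h) := by
  let s : U → U → ZMod p := fun a b => β a b + β b a
  have sl : ∀ a a' b, s (a + a') b = s a b + s a' b := fun a a' b => by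
    simp only [s, hl, hr]; ring
  have sz : ∀ b, s 0 b = 0 := fun b => by
    have h := sl 0 0 b; rw [add_zero] at h; exact left_eq_add.1 h
  have ssym : ∀ a b, s a b = s b a := fun a b => add_comm _ _
  have sinv : ∀ (h : H) a b, s (h • a) (h • b) = s a b := fun h a b => by simp only [s, hinv]
  -- the radical of the symmetrisation
  let R : AddSubgroup U :=
    { carrier := {a | ∀ b, s a b = 0}
      add_mem' := fun ha hb b => by rw [sl, ha, hb, add_zero]
      zero_mem' := sz
      neg_mem' := fun {a} ha b => by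
        have h := sl a (-a) b
        rwa [add_neg_cancel, sz, ha, zero_add, eq_comm] at h }
  have hR : ∀ (h : H), ∀ r ∈ R, h • r ∈ R := fun h r hr b => by
    rw [← smul_inv_smul h b, sinv]; exact hr _
  letI := quotAction R hR
  have hsmk : ∀ (h : H) (a : U), h • (a : U ⧸ R) = ((h • a : U) : U ⧸ R) := fun _ _ => rfl
  have hcongr : ∀ a a' b : U, -a + a' ∈ R → s a b = s a' b := fun a a' b h => by
    conv_rhs => rw [← add_neg_cancel_left a a', sl, h, add_zero]
  let sQ : U ⧸ R → U ⧸ R → ZMod p := fun x y =>
    Quotient.liftOn₂' x y s fun a b a' b' ha hb => by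
      rw [hcongr a a' b (QuotientAddGroup.leftRel_apply.1 ha), ssym, hcongr b b' a'
        (QuotientAddGroup.leftRel_apply.1 hb), ssym]
  have sQl : ∀ x x' y, sQ (x + x') y = sQ x y + sQ x' y := by
    rintro ⟨a⟩ ⟨a'⟩ ⟨b⟩; exact sl a a' b
  have sQsym : ∀ x y, sQ x y = sQ y x := by
    rintro ⟨a⟩ ⟨b⟩; exact ssym a b
  have sQr : ∀ x y y', sQ x (y + y') = sQ x y + sQ x y' := fun x y y' => by
    rw [sQsym, sQl, sQsym y, sQsym y']
  have sQinv : ∀ (h : H) x y, sQ (h • x) (h • y) = sQ x y := fun h => by
    rintro ⟨a⟩ ⟨b⟩; exact sinv h a b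
  have sQnd : ∀ x, (∀ y, sQ y x = 0) → x = 0 := by
    intro x
    induction x using QuotientAddGroup.induction_on with
    | H a =>
      intro h
      exact (QuotientAddGroup.eq_zero_iff a).2 fun b => (ssym a b).trans (h (b : U ⧸ R))
  have hQ : ∀ x : U ⧸ R, p • x = 0 := fun x => QuotientAddGroup.induction_on x fun a => by
    rw [← QuotientAddGroup.mk_nsmul, hU]; rfl
  have htwo : p ≠ 2 → (2 : ZMod p) ≠ 0 := fun hp2 h3 => by
    have h4 : ((2 : ℕ) : ZMod p) = 0 := by exact_mod_cast h3
    rw [ZMod.natCast_eq_zero_iff] at h4 <;>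
      exact hp2 ((Nat.prime_dvd_prime_iff_eq Fact.out Nat.prime_two).1 h4)
  obtain ⟨f₁, hf₁⟩ : ∃ f : H → ℂ, IsOmega M p H (U ⧸ R) f := by
    by_cases hp2 : p = 2
    · subst hp2
      have h0 : ∀ x, sQ x x = 0 := by
        rintro ⟨a⟩; exact CharTwo.add_self_eq_zero _
      obtain ⟨q, hq1, hq2⟩ := exists_invariant_quadratic hQ hpH sQ sQl sQr h0 sQinv
      exact exists_omega_gauss hM hQ hpH q sQ hq1 sQl hq2 sQnd
    · refine exists_omega_gauss hM hQ hpH (fun x => (2 : ZMod p)⁻¹ * sQ x x) sQ (fun a b => ?_) sQl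
        (fun h x => by rw [sQinv]) sQnd
      rw [sQl, sQr, sQr, sQsym b a]
      linear_combination sQ a b * inv_mul_cancel₀ (htwo hp2)
  -- the kernel on the quotient and its commutator space
  let K : Subgroup H :=
    { carrier := {h | ∀ u : U, h • u - u ∈ R}
      one_mem' := fun u => by simp
      mul_mem' := fun {g h} hg hh u => by
        have := add_mem (hg (h • u)) (hh u)
        rwa [sub_add_sub_cancel, ← mul_smul] at this
      inv_mem' := fun {g} hg u => by
        have := neg_mem (hg (g⁻¹ • u))
        rwa [smul_inv_smul, neg_sub] at this }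
  let Y : AddSubgroup U := AddSubgroup.closure {y | ∃ k ∈ K, ∃ u : U, k • u - u = y}
  have hYR : Y ≤ R := (AddSubgroup.closure_le R).2 (by rintro _ ⟨k, hk, u, rfl⟩; exact hk u)
  have hY : ∀ (h : H), ∀ y ∈ Y, h • y ∈ Y := by
    intro h y hy
    induction hy using AddSubgroup.closure_induction with
    | mem y hy =>
      obtain ⟨k, hk, u, rfl⟩ := hy
      refine AddSubgroup.subset_closure ⟨h * k * h⁻¹, fun w => ?_, h • u, ?_⟩
      · have := hR h _ (hk (h⁻¹ • w))
        rwa [smul_sub, smul_inv_smul, ← mul_smul, ← mul_smul] at this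
      · rw [← mul_smul, inv_mul_cancel_right, mul_smul, smul_sub]
    | zero => rw [smul_zero]; exact zero_mem _
    | add a b _ _ ha hb => rw [smul_add]; exact add_mem ha hb
    | neg a _ ha => rw [smul_neg]; exact neg_mem ha
  letI := subAction Y hY
  have hdec : ∀ u : U, ∃ y ∈ Y, ∃ c : U, (∀ k ∈ K, k • c = c) ∧ u = y + c := by
    intro u
    have hKp : Nat.Coprime (Nat.card K) p := Nat.Coprime.coprime_dvd_left (Subgroup.card_subgroup_dvd_card K)
      (((Fact.out : p.Prime).coprime_iff_not_dvd.2 hpH).symm)
    obtain ⟨r, -, hr'⟩ := Nat.exists_mul_mod_eq_one_of_coprime hKp (Fact.out : p.Prime).one_lt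
    have hr1 : ∀ w : U, (Nat.card K * r) • w = w := fun w => by
      conv_lhs => rw [← Nat.div_add_mod (Nat.card K * r) p, hr', add_smul, mul_smul, hU, zero_add,
        one_smul]
    let c := r • ∑ k : K, (k : H) • u
    refine ⟨u - c, ?_, c, fun k hk => ?_, (sub_add_cancel u c).symm⟩
    · have : u - c = -(r • ∑ k : K, ((k : H) • u - u)) := by
        rw [Finset.sum_sub_distrib, Finset.sum_const, Finset.card_univ, ← Nat.card_eq_fintype_card,
          smul_sub, smul_smul, mul_comm r, hr1, neg_sub]
      rw [this]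
      refine neg_mem (nsmul_mem (sum_mem fun k _ => ?_) r)
      exact AddSubgroup.subset_closure ⟨(k : H), k.2, u, rfl⟩
    · show k • (r • ∑ x : K, (x : H) • u) = _
      rw [smul_comm k r, Finset.smul_sum]
      congr 1
      exact Fintype.sum_equiv (Equiv.mulLeft (⟨k, hk⟩ : K)) _ _ fun x => by simp [mul_smul]
  have hYC : ∀ c : U, (∀ k ∈ K, k • c = c) → ∀ y ∈ Y, β y c = 0 := by
    intro c hc y hy
    induction hy using AddSubgroup.closure_induction with
    | mem y hy =>
      obtain ⟨k, hk, u, rfl⟩ := hy
      have h1 := hl (k • u - u) u c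
      rw [sub_add_cancel] at h1
      have h2 : β (k • u) c = β u c := by
        conv_lhs => arg 2; rw [← hc k hk]
        exact hinv k u c
      rw [h2] at h1
      exact right_eq_add.1 h1
    | zero =>
      have h := hl 0 0 c; rw [add_zero] at h; exact left_eq_add.1 h
    | add a b _ _ ha hb => rw [hl, ha, hb, add_zero]
    | neg a _ ha =>
      have h := hl a (-a) c
      have h0 : β 0 c = 0 := by have h := hl 0 0 c; rw [add_zero] at h; exact left_eq_add.1 h
      rwa [add_neg_cancel, h0, ha, zero_add, eq_comm] at h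
  have hYnd : ∀ a : Y, (∀ b : Y, β (a : U) b = 0) → a = 0 := fun a ha => by
    refine Subtype.ext (hnd a fun x => ?_)
    obtain ⟨y, hy, c, hc, rfl⟩ := hdec x
    rw [hr, ha ⟨y, hy⟩, hYC c hc a a.2, add_zero]
  have hYp : ∀ y : Y, p • y = 0 := fun y => Subtype.ext (hU y)
  have hanti : ∀ a : Y, ∀ b : U, β (a : U) b + β b a = 0 := fun a b => hYR a.2 b
  obtain ⟨f₂, hf₂⟩ : ∃ f : H → ℂ, IsOmega M p H Y f := by
    by_cases hp2 : p = 2
    · subst hp2
      have hβ0 : β 0 0 = 0 := by have h := hl 0 0 0; rw [add_zero] at h; exact left_eq_add.1 h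
      have hsq : ∀ a ∈ R, ∀ b, β (a + b) (a + b) = β a a + β b b := fun a ha b => by
        rw [hl, hr, hr]
        linear_combination ha b
      have hdiag : ∀ y ∈ Y, β y y = 0 := by
        intro y hy
        induction hy using AddSubgroup.closure_induction with
        | mem y hy =>
          obtain ⟨k, hk, u, rfl⟩ := hy
          obtain ⟨z, hz, c, hc, rfl⟩ := hdec u
          rw [smul_add, hc k hk, add_sub_add_right_eq_sub]
          have h1 := hsq (k • z - z) (hk z) z
          rw [sub_add_cancel, hinv] at h1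
          exact right_eq_add.1 h1
        | zero => exact hβ0
        | add a b ha _ iha ihb => rw [hsq a (hYR ha), iha, ihb, add_zero]
        | neg a _ ha =>
          rw [show -a = a by rw [neg_eq_iff_add_eq_zero, ← two_nsmul, hU]]
          exact ha
      obtain ⟨q, hq1, hq2⟩ := exists_invariant_quadratic hYp hpH (fun a b : Y => β (a : U) b)
        (fun a a' b => hl _ _ _) (fun a b b' => hr _ _ _) (fun a => hdiag a a.2)
        (fun h a b => hinv h (a : U) b)
      refine exists_omega_gauss hM hYp hpH q _ hq1 (fun a a' b => hl _ _ _) hq2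
        fun a ha => hYnd a fun b => ?_
      have h1 := hanti a b
      rwa [ha b, add_zero] at h1
    · refine exists_omega_alt hM hYp hpH hp2
        { β := fun a b => β (a : U) b
          add_left := fun a a' b => hl _ _ _
          add_right := fun a b b' => hr _ _ _
          self := fun a => ?_
          inv := fun h a b => hinv h (a : U) b
          nd := hYnd }
      have h1 := hanti a a
      rw [← two_mul] at h1
      exact (mul_eq_zero.1 h1).resolve_left (htwo hp2)
  refine ⟨fun h => f₁ h * f₂ h, hf₁.virt.mul hf₂.virt, by simp only [hf₁.one, hf₂.one, one_mul],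
    fun h hh => ?_, fun h => mul_mem (hf₁.cyc h) (hf₂.cyc h), fun h => ?_⟩
  · by_cases hq : ∃ w : U ⧸ R, h • w ≠ w
    · exact (hf₁.small h hq).mul_mem (isIntegral_mem_place hM (hf₂.virt.isIntegral_apply h))
    · push Not at hq
      have hhK : h ∈ K := fun u => by
        rw [← QuotientAddGroup.eq_zero_iff, QuotientAddGroup.mk_sub, ← hsmk, hq, sub_self]
      by_cases hy : ∃ w : Y, h • w ≠ w
      · show Blocks.Small M (f₁ h * f₂ h)
        rw [mul_comm]
        exact (hf₂.small h hy).mul_mem (isIntegral_mem_place hM (hf₁.virt.isIntegral_apply h))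
      · push Not at hy
        refine absurd (hfaith h fun u => ?_) hh
        obtain ⟨y, hyY, c, hc, rfl⟩ := hdec u
        rw [smul_add, hc h hhK]
        congr 1
        exact congrArg Subtype.val (hy ⟨y, hyY⟩)
  · refine ⟨Nat.card (rng (U ⧸ R) h) * Nat.card (rng Y h), ?_, ?_⟩
    · rw [map_mul, mul_mul_mul_comm, hf₁.normSq, hf₂.normSq, Nat.cast_mul]
    · let π : rng U h →+ rng (U ⧸ R) h :=
        AddMonoidHom.mk' (fun z => ⟨((z : U) : U ⧸ R), by
          obtain ⟨u, hu⟩ := z.2
          exact ⟨(u : U ⧸ R), by rw [← hu]; simp [hsmk]⟩⟩) fun a b => Subtype.ext (by simp)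
      have hsurj : Function.Surjective π := by
        rintro ⟨_, ⟨w, rfl⟩⟩
        induction w using QuotientAddGroup.induction_on with
        | H u => exact ⟨⟨_, mem_rng h u⟩, Subtype.ext (by simp [π, hsmk])⟩
      rw [AddSubgroup.card_eq_card_quotient_mul_card_addSubgroup π.ker,
        Nat.card_congr (QuotientAddGroup.quotientKerEquivOfSurjective π hsurj).toEquiv]
      refine Nat.mul_le_mul_left _ (Nat.card_le_card_of_injective (fun z : rng Y h =>
        (⟨⟨((z : Y) : U), by
          obtain ⟨w, hw⟩ := z.2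
          exact ⟨(w : U), congrArg Subtype.val hw⟩⟩, Subtype.ext (by
            show (((z : Y) : U) : U ⧸ R) = 0
            exact (QuotientAddGroup.eq_zero_iff _).2 (hYR (z : Y).2))⟩ : π.ker)) ?_)
      intro a b hab
      exact Subtype.ext (Subtype.ext (congrArg (fun z : π.ker => ((z : rng U h) : U)) hab))

end Cfsg.Lib.RealVector
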