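import Mathlib
import Cfsg.Agent.Blocks.RealVector.Forms
import Cfsg.Agent.Chars.Degree
import Cfsg.Agent.Chars.DegreeTools
import Cfsg.Agent.Blocks.PPart

/-!
# Real vectors bound the class number of a coprime affine group
-/

set_option autoImplicit false
set_option linter.unusedSectionVars false
set_option linter.unusedSimpArgs false

namespace Cfsg.Lib.RealVector

open Cfsg Cfsg.Lib.Chars Cfsg.Lib.Blocks
open scoped ComplexConjugate Classical

universe u

section Cyclotomic

variable {N : ℕ} [NeZero N]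

lemma cycField_le {a : ℕ} [NeZero a] (h : a ∣ N) : cycField a ≤ cycField N := by
  refine IntermediateField.adjoin_le_iff.2 (Set.singleton_subset_iff.2 ?_)
  refine mem_cycField_of_pow_eq_one N ?_
  obtain ⟨b, rfl⟩ := h
  rw [pow_mul, (isPrimitiveRoot_zetaC a).pow_eq_one, one_pow]

lemma conj_zeta : conj (zetaC N) = (zetaC N)⁻¹ := by
  rw [Complex.inv_eq_conj (Complex.norm_eq_one_of_pow_eq_one
    (isPrimitiveRoot_zetaC N).pow_eq_one (NeZero.ne N))]

lemma conj_mem_cycField {z : ℂ} (hz : z ∈ cycField N) : conj z ∈ cycField N := by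
  induction hz using IntermediateField.adjoin_induction with
  | mem x hx =>
    rw [Set.mem_singleton_iff] at hx
    subst hx
    rw [conj_zeta]
    exact inv_mem (IntermediateField.mem_adjoin_simple_self ℚ _)
  | algebraMap x =>
    rw [show conj (algebraMap ℚ ℂ x) = algebraMap ℚ ℂ x from by simp]
    exact IntermediateField.algebraMap_mem _ _
  | add a b _ _ ha hb => rw [map_add]; exact add_mem ha hb
  | inv a _ ha => rw [map_inv₀]; exact inv_mem ha
  | mul a b _ _ ha hb => rw [map_mul]; exact mul_mem ha hb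

lemma auto_mem_cycField (σ : ℂ ≃+* ℂ) {z : ℂ} (hz : z ∈ cycField N) : σ z ∈ cycField N := by
  induction hz using IntermediateField.adjoin_induction with
  | mem x hx =>
    rw [Set.mem_singleton_iff] at hx
    subst hx
    exact mem_cycField_of_pow_eq_one N (by rw [← map_pow, (isPrimitiveRoot_zetaC N).pow_eq_one, map_one])
  | algebraMap x =>
    rw [show σ (algebraMap ℚ ℂ x) = algebraMap ℚ ℂ x from by simp]
    exact IntermediateField.algebraMap_mem _ _
  | add a b _ _ ha hb => rw [map_add]; exact add_mem ha hb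
  | inv a _ ha => rw [map_inv₀]; exact inv_mem ha
  | mul a b _ _ ha hb => rw [map_mul]; exact mul_mem ha hb

lemma auto_conj (σ : ℂ ≃+* ℂ) {z : ℂ} (hz : z ∈ cycField N) : σ (conj z) = conj (σ z) := by
  induction hz using IntermediateField.adjoin_induction with
  | mem x hx =>
    rw [Set.mem_singleton_iff] at hx
    subst hx
    have h1 : σ (zetaC N) ^ N = 1 := by
      rw [← map_pow, (isPrimitiveRoot_zetaC N).pow_eq_one, map_one]
    rw [conj_zeta, map_inv₀, Complex.inv_eq_conj (Complex.norm_eq_one_of_pow_eq_one h1 (NeZero.ne N))]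
  | algebraMap x => simp
  | add a b _ _ ha hb => rw [map_add, map_add, map_add, map_add, ha, hb]
  | inv a _ ha => rw [map_inv₀, map_inv₀, map_inv₀, map_inv₀, ha]
  | mul a b _ _ ha hb => rw [map_mul, map_mul, map_mul, map_mul, ha, hb]

lemma auto_agree {σ τ : ℂ ≃+* ℂ} (h : σ (zetaC N) = τ (zetaC N)) {z : ℂ} (hz : z ∈ cycField N) :
    σ z = τ z := by
  induction hz using IntermediateField.adjoin_induction with
  | mem x hx =>
    rw [Set.mem_singleton_iff] at hx
    subst hx
    exact h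
  | algebraMap x => simp
  | add a b _ _ ha hb => rw [map_add, map_add, ha, hb]
  | inv a _ ha => rw [map_inv₀, map_inv₀, ha]
  | mul a b _ _ ha hb => rw [map_mul, map_mul, ha, hb]

/-- A family of nonzero cyclotomic integers whose sum of squares is rational has at most that
many members. -/
theorem card_le_sum_norm_sq_of_rat {ι : Type*} [Fintype ι] (a : ι → ℂ) (hint : ∀ i, IsIntegral ℤ (a i))
    (hmem : ∀ i, a i ∈ cycField N) (hne : ∀ i, a i ≠ 0) {q : ℚ}
    (hsum : ∑ i, a i * conj (a i) = (q : ℂ)) : (Fintype.card ι : ℝ) ≤ q := by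
  choose σ hσ using fun k : (ZMod N)ˣ =>
    exists_galConj_auto (m := N) (ZMod.val_coe_unit_coprime k)
  have hk : ∀ i, (Fintype.card (ZMod N)ˣ : ℝ) ≤ ∑ k, ‖σ k (a i)‖ ^ 2 := by
    intro i
    set y := ∏ k, σ k (a i) with hy
    have hymem : y ∈ cycField N := prod_mem fun k _ => auto_mem_cycField _ (hmem i)
    have hyint : IsIntegral ℤ y := IsIntegral.prod _ fun k _ =>
      (hint i).map (σ k).toRingHom.toIntAlgHom
    obtain ⟨r, hr⟩ := rat_of_galConj_fixed hymem fun τ j hj hτ => by
      rw [hy, map_prod]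
      refine Fintype.prod_equiv (Equiv.mulLeft (ZMod.unitOfCoprime j hj)) _ _ fun k => ?_
      refine auto_agree (σ := (σ k).trans τ) ?_ (hmem i)
      have hp := (isPrimitiveRoot_zetaC N).pow_eq_one
      rw [RingEquiv.trans_apply, hσ _ _ hp, map_pow, hτ _ hp, hσ _ _ hp, ← pow_mul]
      refine pow_eq_pow_of_modEq ?_ hp
      rw [← ZMod.natCast_eq_natCast_iff]
      simp
    obtain ⟨z, hz⟩ := int_of_isIntegral_rat (q := r) (hr ▸ hyint)
    have hy0 : y ≠ 0 := Finset.prod_ne_zero_iff.2 fun k _ => (map_ne_zero _).2 (hne i)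
    have hz0 : z ≠ 0 := fun h => hy0 (by rw [hr, hz, h]; simp)
    have h1 : 1 ≤ ‖y‖ ^ 2 := by
      rw [hr, hz, Rat.cast_intCast, Complex.norm_intCast]
      exact one_le_pow₀ (by exact_mod_cast Int.one_le_abs hz0)
    set x : (ZMod N)ˣ → ℝ := fun k => ‖σ k (a i)‖ ^ 2 with hx
    have hxpos : ∀ k, 0 < x k := fun k => pow_pos (norm_pos_iff.2 ((map_ne_zero _).2 (hne i))) 2
    have hlog : 0 ≤ ∑ k, Real.log (x k) := by
      rw [← Real.log_prod (fun k _ => (hxpos k).ne')]
      refine Real.log_nonneg ?_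
      rwa [hx, Finset.prod_pow, ← norm_prod]
    have hle : ∑ k, Real.log (x k) ≤ ∑ k, (x k - 1) :=
      Finset.sum_le_sum fun k _ => Real.log_le_sub_one_of_pos (hxpos k)
    rw [Finset.sum_sub_distrib, Finset.sum_const, Finset.card_univ, nsmul_one] at hle
    linarith
  have hq : ∀ k, ∑ i, ‖σ k (a i)‖ ^ 2 = (q : ℝ) := by
    intro k
    have h := congrArg (σ k) hsum
    simp only [map_sum, map_mul, map_ratCast] at h
    rw [Finset.sum_congr rfl fun i _ => by rw [auto_conj _ (hmem i), Complex.mul_conj']] at h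
    exact_mod_cast h
  have h2 := Finset.sum_le_sum fun i (_ : i ∈ Finset.univ) => hk i
  rw [Finset.sum_const, Finset.card_univ, nsmul_eq_mul, Finset.sum_comm,
    Finset.sum_congr rfl fun k _ => hq k, Finset.sum_const, Finset.card_univ, nsmul_eq_mul,
    mul_comm] at h2
  exact le_of_mul_le_mul_left h2 (Nat.cast_pos.2 Fintype.card_pos)

end Cyclotomic

variable {X : Type u} [Group X] [Fintype X] {p : ℕ} [Fact p.Prime] {M : Ideal AlgInt}

lemma res_irr_apply (hM : IsPModular p M) (χ : IrrCharacter X) {v : X} (hv : v ^ p = 1) :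
    res M ((χ : X → ℂ) v) = (deg (χ : X → ℂ) : Res M) := by
  obtain ⟨ι, _, c, z, hz, h⟩ := IsCharacter.exists_cyclic_decomp (isCharacter_of_irr χ.2) v
  have hzp : ∀ i, z i ^ p = 1 := fun i => by
    obtain ⟨b, hb⟩ := orderOf_dvd_of_pow_eq_one hv
    rw [hb, pow_mul, hz, one_pow]
  have h1 := h 1
  have h0 := h 0
  simp only [pow_zero, pow_one, mul_one] at h0 h1
  rw [irr_apply_one_eq_deg, ← Nat.cast_sum] at h0
  have hzm : ∀ i, z i ∈ place M := fun i =>
    isIntegral_mem_place hM (isIntegral_of_pow_eq_one hM.1.pos (hzp i))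
  rw [h1, res_sum _ _ fun i _ => mul_mem (natCast_mem _ _) (hzm i), Nat.cast_inj.1 h0, Nat.cast_sum]
  exact Finset.sum_congr rfl fun i _ => by
    rw [res_mul (natCast_mem _ _) (hzm i), res_natCast, res_eq_one_of_pow hM (hzp i), mul_one]

lemma sum_classInner_mul_conj {H : Type u} [Group H] [Fintype H] {φ : H → ℂ}
    (hφ : IsClassFunction H φ) :
    ∑ ψ : IrrCharacter H, classInner φ (ψ : H → ℂ) * conj (classInner φ (ψ : H → ℂ)) =
      classInner φ φ := by
  conv_rhs => rw [classInner_def]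
  simp only [classInner_def φ]
  rw [Finset.mul_sum]
  calc _ = ∑ ψ : IrrCharacter H, ∑ h : H, (Nat.card H : ℂ)⁻¹ *
        (φ h * conj ((ψ : H → ℂ) h)) * conj (classInner φ (ψ : H → ℂ)) := by
        refine Finset.sum_congr rfl fun ψ _ => ?_
        rw [classInner_def φ, Finset.mul_sum, Finset.sum_mul]
    _ = _ := by
        rw [Finset.sum_comm]
        refine Finset.sum_congr rfl fun h _ => ?_
        conv_rhs => arg 2; arg 2; rw [classFunction_expand_apply hφ h, map_sum]
        rw [Finset.mul_sum, Finset.mul_sum]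
        refine Finset.sum_congr rfl fun ψ _ => ?_
        rw [map_mul]
        ring

lemma deg_not_dvd (V : Subgroup X) [V.Normal] (hab : ∀ a b : V, a * b = b * a) (hidx : ¬ p ∣ V.index)
    (χ : IrrCharacter X) : ¬ p ∣ deg (χ : X → ℂ) := by
  haveI := Fintype.ofFinite V
  obtain ⟨θ, hθ⟩ : ∃ θ : IrrCharacter V, classInner (fun n : V => (χ : X → ℂ) n) (θ : V → ℂ) ≠ 0 := by
    by_contra hno
    push Not at hno
    have hcl : IsClassFunction V (fun n : V => (χ : X → ℂ) n) := fun a b => by
      simp only [Subgroup.coe_mul, Subgroup.coe_inv]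
      exact isClassFunction_irr χ _ _
    have h := classFunction_expand_apply hcl 1
    simp only [hno, zero_mul, Finset.sum_const_zero, OneMemClass.coe_one, irr_apply_one_eq_deg,
      Nat.cast_eq_zero] at h
    exact (deg_irr_pos χ).ne' h
  obtain ⟨m, hm, hmi⟩ := deg_over V χ.2 θ.2 hθ
  have h1 : deg (θ : V → ℂ) = 1 := by
    have := irr_deg_one_of_comm hab θ.2
    rw [irr_apply_one_eq_deg] at this
    exact_mod_cast this
  rw [h1, mul_one] at hm
  exact fun h => hidx ((hm ▸ h).trans hmi)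

/-- The counting, given the function of the stabiliser. -/
theorem card_irr_le (hM : IsPModular p M) (V : Subgroup X) [V.Normal] (hVexp : ∀ a ∈ V, a ^ p = 1)
    (hidx : ¬ p ∣ V.index) (hab : ∀ a b : V, a * b = b * a) (G : Subgroup X)
    (hGV : Subgroup.IsComplement' V G) {v : X} (hv : v ∈ V) (H : Subgroup X)
    (hH : ∀ h, h ∈ H ↔ h ∈ G ∧ h * v = v * h) {f : H → ℂ} (hf : IntVirt f) (hf1 : f 1 = 1)
    (hsmall : ∀ h, h ≠ 1 → Small M (f h)) (hcyc : ∀ h, f h ∈ cycField (p * Nat.card H))
    (hbound : ∀ h : H, ∃ n : ℕ, f h * conj (f h) = (n : ℂ) ∧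
      n * Nat.card (V ⊓ Subgroup.centralizer {(h : X)} : Subgroup X) ≤ Nat.card V) :
    Nat.card (IrrCharacter X) ≤ Nat.card V := by
  have hHG : H ≤ G := fun h hh => ((hH h).1 hh).1
  have hGidx : Nat.card G = V.index := hGV.symm.index_eq_card.symm
  have hpH : ¬ p ∣ Nat.card H := fun h =>
    hidx (hGidx ▸ h.trans (Subgroup.card_dvd_of_le hHG))
  let δ : IrrCharacter X → H → ℂ := fun χ h => (χ : X → ℂ) (v * (h : X))
  have hδ : ∀ χ, IntVirt (δ χ) := by
    intro χ
    obtain ⟨n, ρ, -, hρ⟩ := χ.2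
    have hK : IsIntegral ℤ (ρ v) := by
      refine IsIntegral.of_pow (Fact.out : p.Prime).pos ?_
      rw [← map_pow, hVexp v hv, map_one]
      exact isIntegral_one
    have hc : ∀ h : H, Commute (ρ v) ((ρ.comp H.subtype) h) := fun h => by
      show ρ v * ρ (h : X) = ρ (h : X) * ρ v
      rw [← map_mul, ← map_mul, ((hH _).1 h.2).2]
    have := IntVirt.trace_mul (ρ.comp H.subtype : Representation ℂ H (Fin n → ℂ)) hK hc
    convert this using 1
    funext h
    show (χ : X → ℂ) (v * (h : X)) = LinearMap.trace ℂ _ (ρ v * ρ (h : X))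
    rw [← map_mul, ← hρ]; rfl
  let Mf : IrrCharacter X → H → ℂ := fun χ h => δ χ h * f h
  have hMf : ∀ χ, IntVirt (Mf χ) := fun χ => (hδ χ).mul hf
  let a : IrrCharacter X × IrrCharacter H → ℂ := fun i => classInner (Mf i.1) (i.2 : H → ℂ)
  haveI : NeZero (p * Nat.card H) := ⟨Nat.mul_ne_zero (Fact.out : p.Prime).ne_zero Nat.card_pos.ne'⟩
  haveI : NeZero (p * Nat.card X) := ⟨Nat.mul_ne_zero (Fact.out : p.Prime).ne_zero Nat.card_pos.ne'⟩
  have hmem : ∀ i, a i ∈ cycField (p * Nat.card X) := by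
    intro i
    simp only [a, classInner_def, Mf, δ]
    refine mul_mem (inv_mem (natCast_mem _ _)) (sum_mem fun h _ => mul_mem (mul_mem ?_ ?_) ?_)
    · exact IsCharacter.mem_cycField (isCharacter_of_irr i.1.2)
        (dvd_mul_of_dvd_right (orderOf_dvd_natCard _) p)
    · exact cycField_le (mul_dvd_mul_left p (Subgroup.card_subgroup_dvd_card H)) (hcyc h)
    · exact conj_mem_cycField (IsCharacter.mem_cycField (isCharacter_of_irr i.2.2)
        (dvd_mul_of_dvd_right ((orderOf_dvd_natCard h).trans (Subgroup.card_subgroup_dvd_card H)) p))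
  have hne : ∀ i, a i ≠ 0 := by
    intro i h0
    have hsum : ∑ h : H, δ i.1 h * f h * conj ((i.2 : H → ℂ) h) = 0 := by
      have : (Nat.card H : ℂ)⁻¹ * ∑ h : H, δ i.1 h * f h * conj ((i.2 : H → ℂ) h) = 0 := h0
      exact (mul_eq_zero.1 this).resolve_left (inv_ne_zero (Nat.cast_ne_zero.2 Nat.card_pos.ne'))
    have hδm : ∀ h, δ i.1 h ∈ place M := fun h =>
      isIntegral_mem_place hM ((hδ i.1).isIntegral_apply h)
    have hfm : ∀ h, f h ∈ place M := fun h => isIntegral_mem_place hM (hf.isIntegral_apply h)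
    have hψm : ∀ h, conj ((i.2 : H → ℂ) h) ∈ place M := fun h => by
      rw [← IsCharacter.conj_inv (isCharacter_of_irr i.2.2)]
      exact isIntegral_mem_place hM (IsCharacter.isIntegral (isCharacter_of_irr i.2.2) _)
    have h1 := congrArg (res M) hsum
    rw [res_zero, res_sum _ _ fun h _ => mul_mem (mul_mem (hδm h) (hfm h)) (hψm h),
      Finset.sum_eq_single 1 (fun h _ hh => by
        rw [res_mul (mul_mem (hδm h) (hfm h)) (hψm h), res_mul (hδm h) (hfm h),
          (res_eq_zero_iff (hfm h)).2 (hsmall h hh), mul_zero, zero_mul]) (by simp),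
      hf1, mul_one, irr_apply_one_eq_deg, map_natCast,
      res_mul (hδm 1) (natCast_mem _ _), res_natCast] at h1
    have h2 : δ i.1 1 = (i.1 : X → ℂ) v := by simp [δ]
    rw [h2, res_irr_apply hM i.1 (hVexp v hv), ← Nat.cast_mul, res_natCast_eq_zero_iff hM] at h1
    rcases (Fact.out : p.Prime).dvd_mul.1 h1 with h3 | h3
    · exact deg_not_dvd V hab hidx i.1 h3
    · refine hpH (h3.trans ?_)
      have := deg_dvd_index_of_le_ker i.2.2 (⊥ : Subgroup H) (fun x hx => by rw [Subgroup.mem_bot.1 hx])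
      rwa [Subgroup.index_bot] at this
  choose n hn hnb using hbound
  let S : ℕ := ∑ h : H, n h * Nat.card (Subgroup.centralizer ({v * (h : X)} : Set X))
  have hsum : ∑ i, a i * conj (a i) = (((Nat.card H : ℚ)⁻¹ * (S : ℚ) : ℚ) : ℂ) := by
    rw [Fintype.sum_prod_type]
    simp only [a]
    rw [Finset.sum_congr rfl fun χ _ => sum_classInner_mul_conj (hMf χ).1]
    simp only [classInner_def, ← Finset.mul_sum, Rat.cast_mul, Rat.cast_inv, Rat.cast_natCast, S,
      Nat.cast_sum, Nat.cast_mul, Rat.cast_sum]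
    congr 1
    rw [Finset.sum_comm]
    refine Finset.sum_congr rfl fun h _ => ?_
    have h1 := second_orthogonality (v * (h : X)) (v * (h : X))
    rw [if_pos (IsConj.refl _)] at h1
    rw [← h1, ← hn, Finset.mul_sum]
    exact Finset.sum_congr rfl fun χ _ => by simp only [Mf, δ, map_mul]; ring
  have hint : ∀ i, IsIntegral ℤ (a i) := fun i => (hMf i.1).2 i.2
  have hle := card_le_sum_norm_sq_of_rat a hint hmem hne hsum
  rw [Fintype.card_prod] at hle
  -- centralisers
  have hdec : ∀ x : X, ∃ w : V, ∃ g : G, (w : X) * g = x := fun x => by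
    obtain ⟨⟨w, g⟩, hwg, -⟩ := hGV.existsUnique x
    exact ⟨w, g, hwg⟩
  choose w g hwg using hdec
  have huniq : ∀ (w w' : V) (g g' : G), (w : X) * g = w' * g' → w = w' ∧ g = g' := fun w w' g g' h => by
    have := hGV.1 (a₁ := (w, g)) (a₂ := (w', g')) h
    exact ⟨congrArg Prod.fst this, congrArg Prod.snd this⟩
  have hcent : ∀ h : H, Nat.card (Subgroup.centralizer ({v * (h : X)} : Set X)) ≤
      Nat.card (V ⊓ Subgroup.centralizer {(h : X)} : Subgroup X) *
        Nat.card (Subgroup.centralizer ({h} : Set H)) := by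
    intro h
    have hvh := ((hH _).1 h.2).2
    have key : ∀ x : X, x ∈ Subgroup.centralizer ({v * (h : X)} : Set X) →
        x * v = v * x ∧ x * (h : X) = (h : X) * x := by
      intro x hx
      rw [Subgroup.mem_centralizer_singleton_iff] at hx
      have hvp : ∃ k : ℕ, orderOf v = p ^ k := by
        obtain ⟨k, -, hk⟩ := (Nat.dvd_prime_pow (Fact.out : p.Prime)).1
          (show orderOf v ∣ p ^ 1 by rw [pow_one]; exact orderOf_dvd_of_pow_eq_one (hVexp v hv))
        exact ⟨k, hk⟩
      have hho : ¬ p ∣ orderOf (h : X) := by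
        rw [Subgroup.orderOf_coe]; exact fun hd => hpH (hd.trans (orderOf_dvd_natCard h))
      have hpp : IsPPart p (v * (h : X)) v := isPPart_mul (show Commute v (h : X) from hvh.symm) hvp hho
      have h2 := IsPPart.conj hpp x
      rw [hx, mul_inv_cancel_right] at h2
      have hxv : x * v = v * x := mul_inv_eq_iff_eq_mul.1 (IsPPart.eq (Fact.out) h2 hpp)
      exact ⟨hxv, mul_left_cancel (a := v) (by rw [← mul_assoc, ← hxv, mul_assoc, hx, mul_assoc])⟩
    have hmemg : ∀ x ∈ Subgroup.centralizer ({v * (h : X)} : Set X), ∃ hg : (g x : X) ∈ H,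
        (⟨g x, hg⟩ : H) * h = h * ⟨g x, hg⟩ ∧ (w x : X) * h = h * (w x : X) := by
      intro x hx
      obtain ⟨h1, h2⟩ := key x hx
      rw [← hwg x] at h1 h2
      have hgv : (g x : X) * v = v * (g x : X) := by
        apply mul_left_cancel (a := (w x : X))
        rw [← mul_assoc, h1, ← mul_assoc, ← mul_assoc]
        congr 1
        exact congrArg Subtype.val (hab ⟨v, hv⟩ (w x))
      have h3 := huniq (w x) ⟨(h : X) * (w x : X) * (h : X)⁻¹, ‹V.Normal›.conj_mem _ (w x).2 _⟩
        ⟨(g x : X) * h, G.mul_mem (g x).2 (hHG h.2)⟩ ⟨(h : X) * g x, G.mul_mem (hHG h.2) (g x).2⟩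
        (by simp only [← mul_assoc]; rw [h2]; group)
      refine ⟨(hH _).2 ⟨(g x).2, hgv⟩, Subtype.ext (congrArg (Subtype.val : G → X) h3.2), ?_⟩
      exact (eq_mul_inv_iff_mul_eq.1 (congrArg Subtype.val h3.1))
    rw [← Nat.card_prod]
    refine Nat.card_le_card_of_injective (fun x => ((⟨(w x.1 : X), Subgroup.mem_inf.2 ⟨(w x.1).2,
        Subgroup.mem_centralizer_singleton_iff.2 ((hmemg x.1 x.2).2.2)⟩⟩ :
          (V ⊓ Subgroup.centralizer {(h : X)} : Subgroup X)),
        (⟨⟨g x.1, (hmemg x.1 x.2).1⟩, Subgroup.mem_centralizer_singleton_iff.2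
          ((hmemg x.1 x.2).2.1)⟩ : Subgroup.centralizer ({h} : Set H)))) fun x y hxy => ?_
    obtain ⟨e1, e2⟩ := Prod.mk.injEq .. ▸ hxy
    have e1' : (w x.1 : X) = w y.1 := Subtype.mk.inj e1
    have e2' : (g x.1 : X) = g y.1 := Subtype.mk.inj (Subtype.mk.inj e2)
    exact Subtype.ext (by rw [← hwg x.1, ← hwg y.1, e1', e2'])
  have hclass : ∑ h : H, Nat.card (Subgroup.centralizer ({h} : Set H)) =
      Nat.card H * Nat.card (IrrCharacter H) := by
    apply Nat.cast_injective (R := ℂ)
    push_cast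
    calc ∑ h : H, (Nat.card (Subgroup.centralizer ({h} : Set H)) : ℂ)
        = ∑ h : H, ∑ ψ : IrrCharacter H, (ψ : H → ℂ) h * conj ((ψ : H → ℂ) h) :=
          Finset.sum_congr rfl fun h _ => by rw [second_orthogonality, if_pos (IsConj.refl h)]
      _ = ∑ ψ : IrrCharacter H, (Nat.card H : ℂ) := by
          rw [Finset.sum_comm]
          refine Finset.sum_congr rfl fun ψ _ => ?_
          have := classInner_irr_self ψ
          rw [classInner_def] at this
          rw [← mul_one (Nat.card H : ℂ), ← this, mul_inv_cancel_left₀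
            (Nat.cast_ne_zero.2 Nat.card_pos.ne')]
      _ = _ := by
          rw [Finset.sum_const, Finset.card_univ, nsmul_eq_mul, Nat.card_eq_fintype_card (α := IrrCharacter H),
            mul_comm]
  have hS : S ≤ Nat.card V * (Nat.card H * Nat.card (IrrCharacter H)) := by
    rw [← hclass, Finset.mul_sum]
    refine Finset.sum_le_sum fun h _ => le_trans (Nat.mul_le_mul_left _ (hcent h)) ?_
    rw [← mul_assoc]
    exact Nat.mul_le_mul_right _ (hnb h)
  have h4 : Nat.card (IrrCharacter X) * Nat.card (IrrCharacter H) * Nat.card H ≤ S := by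
    rw [Nat.card_eq_fintype_card (α := IrrCharacter X), Nat.card_eq_fintype_card (α := IrrCharacter H)]
    have h5 : ((Fintype.card (IrrCharacter X) * Fintype.card (IrrCharacter H) : ℕ) : ℚ) ≤
        (Nat.card H : ℚ)⁻¹ * (S : ℚ) := by exact_mod_cast hle
    rw [le_inv_mul_iff₀ (Nat.cast_pos.2 Nat.card_pos), ← Nat.cast_mul, Nat.cast_le, mul_comm] at h5
    exact h5
  have hpos : 0 < Nat.card (IrrCharacter H) := by rw [card_irrCharacter]; exact Nat.card_pos
  refine Nat.le_of_mul_le_mul_right ?_ (Nat.mul_pos hpos (Nat.card_pos (α := H)))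
  rw [← mul_assoc, mul_comm (Nat.card H)] at *
  calc _ ≤ S := h4
    _ ≤ _ := hS.trans (le_of_eq (by ring))

/-- **The real vector criterion.** -/
theorem card_conjClasses_le (hM : IsPModular p M) (V : Subgroup X) [V.Normal]
    (hVexp : ∀ a ∈ V, a ^ p = 1) (hidx : ¬ p ∣ V.index)
    (hself : Subgroup.centralizer (V : Set X) = V) (G : Subgroup X)
    (hGV : Subgroup.IsComplement' V G) {v : X} (hv : v ∈ V) (U : Subgroup X) (hUV : U ≤ V)
    (hUinv : ∀ h ∈ G, h * v * h⁻¹ = v → ∀ u ∈ U, h * u * h⁻¹ ∈ U)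
    (hUfaith : ∀ h ∈ G, h * v * h⁻¹ = v → (∀ u ∈ U, h * u * h⁻¹ = u) → h = 1)
    (β : X → X → ZMod p) (hβl : ∀ u ∈ U, ∀ u' ∈ U, ∀ w ∈ U, β (u * u') w = β u w + β u' w)
    (hβr : ∀ u ∈ U, ∀ w ∈ U, ∀ w' ∈ U, β u (w * w') = β u w + β u w')
    (hβinv : ∀ h ∈ G, h * v * h⁻¹ = v → ∀ u ∈ U, ∀ w ∈ U, β (h * u * h⁻¹) (h * w * h⁻¹) = β u w)
    (hβnd : ∀ u ∈ U, (∀ w ∈ U, β u w = 0) → u = 1) :
    Nat.card (ConjClasses X) ≤ Nat.card V := by
  have hab : ∀ a b : V, a * b = b * a := fun a b => by
    have ha : (a : X) ∈ Subgroup.centralizer (V : Set X) := by rw [hself]; exact a.2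
    exact Subtype.ext (Subgroup.mem_centralizer_iff.1 ha b b.2).symm
  let H : Subgroup X := G ⊓ Subgroup.centralizer {v}
  have hH : ∀ h, h ∈ H ↔ h ∈ G ∧ h * v = v * h := fun h => by
    rw [Subgroup.mem_inf, Subgroup.mem_centralizer_singleton_iff]
  have hHv : ∀ h : H, (h : X) * v * (h : X)⁻¹ = v := fun h => by
    rw [mul_inv_eq_iff_eq_mul]; exact ((hH _).1 h.2).2
  letI : CommGroup U :=
    { (inferInstance : Group U) with
      mul_comm := fun a b => Subtype.ext
        (congrArg Subtype.val (hab ⟨a, hUV a.2⟩ ⟨b, hUV b.2⟩) :) }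
  letI : DistribMulAction H (Additive U) :=
    { smul := fun h a => Additive.ofMul
        ⟨(h : X) * ((Additive.toMul a : U) : X) * (h : X)⁻¹,
          hUinv h ((hH _).1 h.2).1 (hHv h) _ (Additive.toMul a : U).2⟩
      one_smul := fun a => by
        refine congrArg Additive.ofMul (Subtype.ext ?_)
        show (((1 : H) : X)) * _ * ((1 : H) : X)⁻¹ = _
        simp
        rfl
      mul_smul := fun g h a => by
        refine congrArg Additive.ofMul (Subtype.ext ?_)
        show ((g * h : H) : X) * _ * ((g * h : H) : X)⁻¹ =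
          (g : X) * ((h : X) * ((Additive.toMul a : U) : X) * (h : X)⁻¹) * (g : X)⁻¹
        simp [mul_assoc]
      smul_zero := fun h => by
        refine congrArg Additive.ofMul (Subtype.ext ?_)
        show (h : X) * ((1 : U) : X) * (h : X)⁻¹ = _
        simp
      smul_add := fun h a b => by
        refine congrArg Additive.ofMul (Subtype.ext ?_)
        show (h : X) * (((Additive.toMul a : U) : X) * ((Additive.toMul b : U) : X)) * (h : X)⁻¹ =
          ((h : X) * ((Additive.toMul a : U) : X) * (h : X)⁻¹) *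
            ((h : X) * ((Additive.toMul b : U) : X) * (h : X)⁻¹)
        group }
  let m : Additive U → X := fun a => ((Additive.toMul a : U) : X)
  have hm : ∀ a, m a ∈ U := fun a => (Additive.toMul a : U).2
  have hU : ∀ a : Additive U, p • a = 0 := fun a =>
    congrArg Additive.ofMul (Subtype.ext (hVexp _ (hUV (hm a))) : (Additive.toMul a : U) ^ p = 1)
  have hpH : ¬ p ∣ Nat.card H := fun h =>
    hidx (hGV.symm.index_eq_card ▸ h.trans (Subgroup.card_dvd_of_le inf_le_left))
  have hfaith : ∀ h : H, (∀ a : Additive U, h • a = a) → h = 1 := fun h ha =>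
    Subtype.ext (hUfaith h ((hH _).1 h.2).1 (hHv h) fun u hu =>
      congrArg m (ha (Additive.ofMul ⟨u, hu⟩)))
  obtain ⟨f, hf, hf1, hsmall, hcyc, hbound⟩ := exists_omega_pairing (U := Additive U) hM hU hpH
    hfaith (fun a b => β (m a) (m b))
    (fun a a' b => hβl _ (hm a) _ (hm a') _ (hm b)) (fun a b b' => hβr _ (hm a) _ (hm b) _ (hm b'))
    (fun h a b => hβinv h ((hH _).1 h.2).1 (hHv h) _ (hm a) _ (hm b))
    (fun a ha => congrArg Additive.ofMul (Subtype.ext
      (hβnd _ (hm a) fun w hw => ha (Additive.ofMul ⟨w, hw⟩)) : (Additive.toMul a : U) = 1))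
  rw [← card_irrCharacter]
  refine card_irr_le hM V hVexp hidx hab G hGV hv H hH hf hf1 hsmall hcyc fun h => ?_
  obtain ⟨N, hN, hNle⟩ := hbound h
  refine ⟨N, hN, le_trans (Nat.mul_le_mul_right _ hNle) ?_⟩
  rw [← Nat.card_prod]
  refine Nat.card_le_card_of_injective (fun z => (⟨m (z.1 : Additive U) * (z.2 : X),
    V.mul_mem (hUV (hm _)) (Subgroup.mem_inf.1 z.2.2).1⟩ : V)) ?_
  rintro ⟨a, c⟩ ⟨b, d⟩ habcd
  have e : m (a : Additive U) * (c : X) = m (b : Additive U) * (d : X) := congrArg Subtype.val habcd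
  have hval : m ((a : Additive U) - (b : Additive U)) = (d : X) * (c : X)⁻¹ := by
    show ((Additive.toMul (a : Additive U) / Additive.toMul (b : Additive U) : U) : X) = _
    rw [div_eq_inv_mul, Subgroup.coe_mul, Subgroup.coe_inv]
    show (m (b : Additive U))⁻¹ * m (a : Additive U) = _
    rw [eq_mul_inv_iff_mul_eq, mul_assoc, e, inv_mul_cancel_left]
  have h0 : (a : Additive U) - b = 0 := by
    refine eq_zero_of_fixed hU hpH (sub_mem a.2 b.2) (congrArg Additive.ofMul (Subtype.ext ?_))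
    show (h : X) * m ((a : Additive U) - b) * (h : X)⁻¹ = m ((a : Additive U) - b)
    rw [hval, mul_inv_eq_iff_eq_mul]
    have hc := Subgroup.mem_centralizer_singleton_iff.1 (Subgroup.mem_inf.1 c.2).2
    have hd := Subgroup.mem_centralizer_singleton_iff.1 (Subgroup.mem_inf.1 d.2).2
    exact ((Commute.mul_left (show Commute (d : X) h from hd)
      (show Commute (c : X) h from hc).inv_left).eq).symm
  have hab' : a = b := Subtype.ext (sub_eq_zero.1 h0)
  subst hab'
  exact Prod.ext rfl (Subtype.ext (mul_left_cancel e))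

end Cfsg.Lib.RealVector
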